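import Cfsg.Agent.Lib.Schur.MinusRoot.Torus

/-!
Lifted parabolic subgroups of minus type and their double cosets: the kernel of the lift lies in the lifted
torus on the subgroup generated by the root elements.
-/

set_option autoImplicit false
set_option linter.unusedSectionVars false

namespace Cfsg.Agent.Lib.Schur.MinusRoot

open QuadraticMap Cfsg.Agent.Lib.Orth
open scoped commutatorElement

universe u w

variable {F : Type u} [Field F] {D : Datum F}

theorem wPerm_fix {m : ℕ} {a b x : SI m} (ha : ix x ≠ ix a) (hb : ix x ≠ ix b) : wPerm a b x = x := by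
  obtain ⟨p1, p2, -⟩ := ne_of_ix ha
  obtain ⟨q1, q2, -⟩ := ne_of_ix hb
  simp [wPerm, p1, p2, q1, q2]

theorem ne_ix_of_lt {m : ℕ} {a b : SI m} (h : (ix a).val < (ix b).val) : ix a ≠ ix b :=
  fun e => by rw [e] at h; exact lt_irrefl _ h

namespace Ext

open Datum

variable {Γ : Type w} [Group Γ] (L : Ext D Γ)

/-- The root elements with indices at least `j`. -/
def GGen (j : ℕ) : Set Γ :=
  {x | ∃ (a b : SI D.m) (t : F), ix a ≠ ix b ∧ j ≤ (ix a).val ∧ j ≤ (ix b).val ∧ x = L.X a b t} ∪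
    {x | ∃ (a : SI D.m) (v : D.K), j ≤ (ix a).val ∧ x = L.Z a v}

/-- The subgroup of the indices at least `j`. -/
noncomputable def GJ (j : ℕ) : Subgroup Γ := L.T ⊔ Subgroup.closure (L.GGen j)

/-- Some root elements of a unipotent radical. -/
noncomputable def RS (a : SI D.m) (S : Finset (SI D.m)) : Subgroup Γ :=
  Subgroup.closure ({x | ∃ v, x = L.Z a v} ∪
    {x | ∃ c t, c ∈ S ∧ (ix a).val < (ix c).val ∧ x = L.X a c t})

/-- The unipotent radical at `a`. -/
noncomputable def R (a : SI D.m) : Subgroup Γ := L.RS a Finset.univ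

/-- The parabolic subgroup at `a`. -/
noncomputable def P (a : SI D.m) : Subgroup Γ := L.R a ⊔ L.GJ ((ix a).val + 1)

theorem T_le_GJ (j : ℕ) : L.T ≤ L.GJ j := le_sup_left

theorem X_mem_GJ {a b : SI D.m} (h : ix a ≠ ix b) {j : ℕ} (ha : j ≤ (ix a).val) (hb : j ≤ (ix b).val)
    (t : F) : L.X a b t ∈ L.GJ j :=
  Subgroup.mem_sup_right (Subgroup.subset_closure (Or.inl ⟨a, b, t, h, ha, hb, rfl⟩))

theorem Z_mem_GJ {a : SI D.m} {j : ℕ} (ha : j ≤ (ix a).val) (v : D.K) : L.Z a v ∈ L.GJ j :=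
  Subgroup.mem_sup_right (Subgroup.subset_closure (Or.inr ⟨a, v, ha, rfl⟩))

theorem GJ_anti {i j : ℕ} (h : i ≤ j) : L.GJ j ≤ L.GJ i := by
  refine sup_le (L.T_le_GJ i) ((Subgroup.closure_le _).mpr ?_)
  rintro x (⟨a, b, t, hab, ha, hb, rfl⟩ | ⟨a, v, ha, rfl⟩)
  · exact L.X_mem_GJ hab (h.trans ha) (h.trans hb) t
  · exact L.Z_mem_GJ (h.trans ha) v

theorem W_mem_GJ {a b : SI D.m} (h : ix a ≠ ix b) {j : ℕ} (ha : j ≤ (ix a).val) (hb : j ≤ (ix b).val)
    (t : F) : L.W a b t ∈ L.GJ j :=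
  mul_mem (mul_mem (L.X_mem_GJ h ha hb t)
    (L.X_mem_GJ (a := a.swap) (b := b.swap) (by rwa [ix_op, ix_op]) (by rwa [ix_op]) (by rwa [ix_op]) _))
    (L.X_mem_GJ h ha hb t)

theorem N_mem_GJ {a : SI D.m} {j : ℕ} (ha : j ≤ (ix a).val) (v : D.K) : L.N a v ∈ L.GJ j :=
  mul_mem (mul_mem (L.Z_mem_GJ ha v) (L.Z_mem_GJ (a := a.swap) (by rwa [ix_op]) _)) (L.Z_mem_GJ ha v)

theorem GJ_le_P (a : SI D.m) : L.GJ ((ix a).val + 1) ≤ L.P a := le_sup_right

theorem T_le_P (a : SI D.m) : L.T ≤ L.P a := (L.T_le_GJ _).trans (L.GJ_le_P a)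

theorem R_le_P (a : SI D.m) : L.R a ≤ L.P a := le_sup_left

theorem Z_mem_R (a : SI D.m) (v : D.K) : L.Z a v ∈ L.R a := Subgroup.subset_closure (Or.inl ⟨v, rfl⟩)

theorem X_mem_R {a c : SI D.m} (h : (ix a).val < (ix c).val) (t : F) : L.X a c t ∈ L.R a :=
  Subgroup.subset_closure (Or.inr ⟨c, t, Finset.mem_univ _, h, rfl⟩)

/-- Monomial conjugation of the generated subgroups. -/
theorem conj_GJ_mem [Finite F] {γ : Γ} {π : SI D.m → SI D.m} {k : SI D.m → F} {c : D.K} {ε : Bool}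
    (M : D.Mono (L.σ γ) π k c ε) {i j : ℕ} (hπ : ∀ x, i ≤ (ix x).val → j ≤ (ix (π x)).val) {g : Γ}
    (hg : g ∈ L.GJ i) : γ * g * γ⁻¹ ∈ L.GJ j := by
  suffices h : L.GJ i ≤ (L.GJ j).comap (MulAut.conj γ).toMonoidHom from h hg
  refine sup_le (fun x hx => L.T_le_GJ j (L.conj_T_mem M hx)) ((Subgroup.closure_le _).mpr ?_)
  rintro x (⟨a, b, t, hab, ha, hb, rfl⟩ | ⟨a, v, ha, rfl⟩)
  · show γ * L.X a b t * γ⁻¹ ∈ L.GJ j
    rw [L.conj_X M hab]
    exact L.X_mem_GJ (M.ix_ne hab) (hπ a ha) (hπ b hb) _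
  · show γ * L.Z a v * γ⁻¹ ∈ L.GJ j
    rw [L.conj_Z M]
    exact L.Z_mem_GJ (hπ a ha) _

/-- Long root elements of larger indices normalise the radical. -/
theorem X_conj_R {a b d : SI D.m} (hbd : ix b ≠ ix d) (hb : (ix a).val < (ix b).val)
    (hd : (ix a).val < (ix d).val) (s : F) {r : Γ} (hr : r ∈ L.R a) :
    L.X b d s * r * (L.X b d s)⁻¹ ∈ L.R a := by
  have hab := ne_ix_of_lt hb
  have had := ne_ix_of_lt hd
  refine conj_mem_closure _ ?_ hr
  rintro y (⟨v, rfl⟩ | ⟨c, t, -, hc, rfl⟩)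
  · rw [(L.commute_X_Z hbd (ne_of_ix hab).2.1 (ne_of_ix had).2.1 s v).eq, mul_inv_cancel_right]
    exact L.Z_mem_R a v
  · have hac := ne_ix_of_lt hc
    have key : ∀ p q : Γ, p * q * p⁻¹ = ⁅q, p⁆⁻¹ * q := fun p q => by rw [commutatorElement_def]; group
    by_cases h1 : c = b.swap
    · rw [key, show L.X b d s = L.X c.swap d s by rw [h1, Sum.swap_swap],
        L.comm_X_X hac had (by rw [h1, ix_op]; exact hbd)]
      exact mul_mem (inv_mem (L.X_mem_R hd _)) (L.X_mem_R hc t)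
    by_cases h2 : c = d.swap
    · rw [key, show L.X b d s = L.X c.swap b (-s) by rw [h2, Sum.swap_swap, L.X_flip hbd, neg_neg],
        L.comm_X_X hac hab (by rw [h2, ix_op]; exact Ne.symm hbd)]
      exact mul_mem (inv_mem (L.X_mem_R hb _)) (L.X_mem_R hc t)
    rw [(L.commute_X_X hbd hac (ne_of_ix hab).2.1 (ne_of_ix had).2.1 h1 h2 s t).eq, mul_inv_cancel_right]
    exact L.X_mem_R hc t

/-- Short root elements of larger indices normalise the radical. -/
theorem Z_conj_R {a b : SI D.m} (hb : (ix a).val < (ix b).val) (w : D.K) {r : Γ} (hr : r ∈ L.R a) :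
    L.Z b w * r * (L.Z b w)⁻¹ ∈ L.R a := by
  have hab := ne_ix_of_lt hb
  have key : ∀ p q : Γ, p * q * p⁻¹ = ⁅q, p⁆⁻¹ * q := fun p q => by rw [commutatorElement_def]; group
  refine conj_mem_closure _ ?_ hr
  rintro y (⟨v, rfl⟩ | ⟨c, t, -, hc, rfl⟩)
  · rw [key, L.comm_Z_Z hab]
    exact mul_mem (inv_mem (L.X_mem_R hb _)) (L.Z_mem_R a v)
  · have hac := ne_ix_of_lt hc
    by_cases h1 : b = c.swap
    · rw [key, h1, L.comm_X_Z hac]
      exact mul_mem (inv_mem (mul_mem (L.Z_mem_R a _) (L.X_mem_R (by rwa [ix_op]) _))) (L.X_mem_R hc t)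
    rw [← (L.commute_X_Z hac (c := b) (fun e => hab (by rw [e, ix_op])) h1 t w).eq, mul_inv_cancel_right]
    exact L.X_mem_R hc t

/-- The radical is normal in the parabolic subgroup. -/
theorem normalise [Finite F] {a : SI D.m} {g : Γ} (hg : g ∈ L.GJ ((ix a).val + 1)) :
    ∀ r ∈ L.R a, g * r * g⁻¹ ∈ L.R a ∧ g⁻¹ * r * g ∈ L.R a := by
  rw [GJ, Subgroup.sup_eq_closure] at hg
  induction hg using Subgroup.closure_induction with
  | mem g hg =>
    rcases hg with hg | hg
    · have hT : ∀ g ∈ L.T, ∀ r ∈ L.R a, g * r * g⁻¹ ∈ L.R a := by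
        intro g hg r hr
        obtain ⟨k, c, M⟩ := L.mono_T hg
        refine conj_mem_closure _ ?_ hr
        rintro y (⟨v, rfl⟩ | ⟨d, t, -, hd, rfl⟩)
        · rw [L.conj_Z M]; exact L.Z_mem_R a _
        · rw [L.conj_X M (ne_ix_of_lt hd)]; exact L.X_mem_R hd _
      intro r hr
      exact ⟨hT g hg r hr, by simpa using hT g⁻¹ (inv_mem hg) r hr⟩
    · have hC : ∀ g ∈ Subgroup.closure (L.GGen ((ix a).val + 1)), ∀ r ∈ L.R a,
          g * r * g⁻¹ ∈ L.R a ∧ g⁻¹ * r * g ∈ L.R a := by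
        intro g hg
        induction hg using Subgroup.closure_induction with
        | mem g hg =>
          rcases hg with ⟨b, d, s, hbd, hb, hd, rfl⟩ | ⟨b, v, hb, rfl⟩
          · intro r hr
            refine ⟨L.X_conj_R hbd hb hd s hr, ?_⟩
            have := L.X_conj_R hbd hb hd (-s) hr
            rwa [← L.X_inv hbd, inv_inv] at this
          · intro r hr
            refine ⟨L.Z_conj_R hb v hr, ?_⟩
            have := L.Z_conj_R hb (-v) hr
            rwa [← L.Z_inv, inv_inv] at this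
        | one => intro r hr; simp [hr]
        | mul x y _ _ ih ih' =>
          intro r hr
          refine ⟨?_, ?_⟩
          · simpa [mul_assoc] using (ih _ (ih' r hr).1).1
          · simpa [mul_assoc] using (ih' _ (ih r hr).2).2
        | inv x _ ih => intro r hr; simpa using (ih r hr).symm
      exact hC g hg
  | one => intro r hr; simp [hr]
  | mul x y _ _ ih ih' =>
    intro r hr
    refine ⟨?_, ?_⟩
    · simpa [mul_assoc] using (ih _ (ih' r hr).1).1
    · simpa [mul_assoc] using (ih' _ (ih r hr).2).2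
  | inv x _ ih => intro r hr; simpa using (ih r hr).symm

theorem P_gr [Finite F] {a : SI D.m} {p : Γ} (hp : p ∈ L.P a) :
    ∃ g ∈ L.GJ ((ix a).val + 1), ∃ r ∈ L.R a, p = g * r := by
  rw [P, sup_comm] at hp
  exact exists_mul_of_mem_sup (fun g hg r hr => (L.normalise hg r hr).1) hp

theorem P_rg [Finite F] {a : SI D.m} {p : Γ} (hp : p ∈ L.P a) :
    ∃ r ∈ L.R a, ∃ g ∈ L.GJ ((ix a).val + 1), p = r * g := by
  obtain ⟨g, hg, r, hr, rfl⟩ := L.P_gr hp
  exact ⟨_, (L.normalise hg r hr).1, g, hg, by group⟩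

/-! ### Splitting the radical -/

theorem RS_mono (a : SI D.m) {S S' : Finset (SI D.m)} (h : S ⊆ S') : L.RS a S ≤ L.RS a S' :=
  Subgroup.closure_mono (Set.union_subset_union_right _ (by
    rintro x ⟨c, t, hc, hl, e⟩; exact ⟨c, t, h hc, hl, e⟩))

theorem commute_RS {a c : SI D.m} (hc : (ix a).val < (ix c).val) (t : F) {S : Finset (SI D.m)} {y : Γ}
    (hy : y ∈ L.RS a S) : Commute (L.X a c t) y := by
  have hac := ne_ix_of_lt hc
  induction hy using Subgroup.closure_induction with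
  | mem y hy =>
    rcases hy with ⟨v, rfl⟩ | ⟨d, s, -, hd, rfl⟩
    · exact L.commute_X_Z hac (op_ne a).symm (ne_of_ix hac).2.1 t v
    · have had := ne_ix_of_lt hd
      by_cases e : d = c.swap
      · subst e; exact L.commute_X_vPair hac t s
      exact L.commute_X_X hac had (op_ne a).symm (ne_of_ix hac).2.1
        (fun e' => had (by rw [e', ix_op])) e t s
  | one => exact Commute.one_right _
  | mul x y _ _ ih ih' => exact ih.mul_right ih'
  | inv x _ ih => exact ih.inv_right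

theorem RS_split {a c : SI D.m} (hc : (ix a).val < (ix c).val) (S : Finset (SI D.m)) {r : Γ}
    (hr : r ∈ L.RS a (insert c S)) : ∃ y ∈ L.RS a S, ∃ t, r = y * L.X a c t := by
  have hac := ne_ix_of_lt hc
  induction hr using Subgroup.closure_induction with
  | mem r hr =>
    rcases hr with hr | ⟨d, t, hd, hl, rfl⟩
    · exact ⟨r, Subgroup.subset_closure (Or.inl hr), 0, by rw [L.X_zero hac, mul_one]⟩
    · rcases Finset.mem_insert.mp hd with rfl | hd
      · exact ⟨1, one_mem _, t, (one_mul _).symm⟩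
      · exact ⟨_, Subgroup.subset_closure (Or.inr ⟨d, t, hd, hl, rfl⟩), 0, by rw [L.X_zero hac, mul_one]⟩
  | one => exact ⟨1, one_mem _, 0, by rw [L.X_zero hac, mul_one]⟩
  | mul x y _ _ ih ih' =>
    obtain ⟨x, hx, s, rfl⟩ := ih
    obtain ⟨y, hy, t, rfl⟩ := ih'
    refine ⟨x * y, mul_mem hx hy, s + t, ?_⟩
    rw [show x * L.X a c s * (y * L.X a c t) = x * (L.X a c s * y) * L.X a c t by group,
      (L.commute_RS hc s hy).eq, ← L.X_add hac]
    group
  | inv x _ ih =>
    obtain ⟨y, hy, t, rfl⟩ := ih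
    refine ⟨y⁻¹, inv_mem hy, -t, ?_⟩
    rw [mul_inv_rev, (L.commute_RS hc t hy).inv_inv.eq, L.X_inv hac]

theorem R_fix {a : SI D.m} {S : Finset (SI D.m)} {r : Γ} (hr : r ∈ L.RS a S) :
    app (L.σ r) (D.e a) = D.e a ∧
      ∀ v : D.V, v (Sum.inl a.swap) = 0 → ∃ k : F, app (L.σ r) v = v + k • D.e a := by
  induction hr using Subgroup.closure_induction with
  | mem r hr =>
    rcases hr with ⟨v, rfl⟩ | ⟨c, t, -, hc, rfl⟩
    · rw [σ_Z]
      refine ⟨D.app_z_fix a v (op_ne a).symm, fun y hy => ⟨-QuadraticMap.polar ⇑D.Q (D.j v) y, ?_⟩⟩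
      rw [z, D.app_E (D.Q_e a) (D.polar_e_j a v), D.polar_e_left, hy, zero_smul, add_zero, mul_zero, add_zero,
        sub_eq_add_neg, ← neg_smul]
    · have hac := ne_ix_of_lt hc
      rw [L.σ_X hac]
      refine ⟨D.app_x_fix hac t (op_ne a).symm (ne_of_ix hac).2.1,
        fun y hy => ⟨-QuadraticMap.polar ⇑D.Q (t • D.e c) y, ?_⟩⟩
      rw [Datum.x, D.app_E (D.Q_e a) (D.polar_x hac t), D.polar_e_left, hy, zero_smul, add_zero, mul_zero, add_zero,
        sub_eq_add_neg, ← neg_smul]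
  | one => exact ⟨by rw [map_one, app_one], fun v _ => ⟨0, by rw [map_one, app_one, zero_smul, add_zero]⟩⟩
  | mul x y _ _ ih ih' =>
    refine ⟨by rw [map_mul, app_mul, ih'.1, ih.1], fun v hv => ?_⟩
    obtain ⟨k, hk⟩ := ih'.2 v hv
    obtain ⟨l, hl⟩ := ih.2 v hv
    exact ⟨l + k, by rw [map_mul, app_mul, hk, app_add, app_smul, hl, ih.1, add_smul, add_assoc]⟩
  | inv x _ ih =>
    have h1 : app (L.σ x⁻¹) (D.e a) = D.e a := app_injective (L.σ x) (by rw [map_inv, app_app_inv, ih.1])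
    refine ⟨h1, fun v hv => ?_⟩
    obtain ⟨k, hk⟩ := ih.2 v hv
    refine ⟨-k, app_injective (L.σ x) ?_⟩
    rw [map_inv, app_app_inv, app_add, app_smul, hk, ih.1, neg_smul, add_neg_cancel_right]

/-- The displacement of `e a.swap` is additive outside `e a`. -/
theorem R_disp {a : SI D.m} {S : Finset (SI D.m)} {x : Γ} (hx : x ∈ L.RS a S) (y : Γ) (hy : y ∈ L.RS a S) :
    ∃ k : F, app (L.σ (x * y)) (D.e a.swap) - D.e a.swap = (app (L.σ x) (D.e a.swap) - D.e a.swap) +
      (app (L.σ y) (D.e a.swap) - D.e a.swap) + k • D.e a := by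
  have h0 : (app (L.σ y) (D.e a.swap) - D.e a.swap) (Sum.inl a.swap) = 0 := by
    rw [← D.polar_e_left a (app (L.σ y) (D.e a.swap) - D.e a.swap), polar_sub_right]
    conv_lhs => arg 1; arg 2; rw [← (L.R_fix hy).1]
    rw [polar_app, sub_self]
  obtain ⟨k, hk⟩ := (L.R_fix hx).2 _ h0
  refine ⟨k, ?_⟩
  rw [app_sub] at hk
  rw [map_mul, app_mul, show app (L.σ x) (app (L.σ y) (D.e a.swap)) = app (L.σ x) (D.e a.swap) +
    (app (L.σ y) (D.e a.swap) - D.e a.swap + k • D.e a) by rw [← hk]; abel]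
  abel

/-- The coordinates of the displacement outside a set of indices vanish. -/
theorem RS_coord {a : SI D.m} {S : Finset (SI D.m)} {r : Γ} (hr : r ∈ L.RS a S) {c : SI D.m} (hc : c ∉ S)
    (hl : (ix a).val < (ix c).val) : (app (L.σ r) (D.e a.swap) - D.e a.swap) (Sum.inl c) = 0 := by
  have hac := ne_ix_of_lt hl
  have hca : c ≠ a := fun e => hac (by rw [e])
  have hea : (D.e a) (Sum.inl c) = 0 := by simp [Datum.e, hca]
  induction hr using Subgroup.closure_induction with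
  | mem r hr =>
    rcases hr with ⟨v, rfl⟩ | ⟨d, t, hd, hdl, rfl⟩
    · rw [σ_Z, D.app_z_op]
      simp [Datum.e, Datum.j, hca]
    · have hdc : c ≠ d := fun e => hc (e ▸ hd)
      rw [L.σ_X (ne_ix_of_lt hdl), D.app_x_e (ne_ix_of_lt hdl), if_pos rfl,
        if_neg (fun e => ne_ix_of_lt hdl (by rw [op_inj e]))]
      simp [Datum.e, hdc]
  | one => rw [map_one, app_one, sub_self]; rfl
  | mul x y hx hy ih ih' =>
    obtain ⟨k, hk⟩ := L.R_disp hx y hy
    rw [hk, Pi.add_apply, Pi.add_apply, Pi.smul_apply, ih, ih', hea, smul_zero, add_zero, add_zero]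
  | inv x hx ih =>
    obtain ⟨k, hk⟩ := L.R_disp hx x⁻¹ (inv_mem hx)
    have := congrFun hk (Sum.inl c)
    rw [mul_inv_cancel, map_one, app_one, sub_self, Pi.add_apply, Pi.add_apply, Pi.smul_apply, ih, hea,
      smul_zero, zero_add, add_zero] at this
    exact this.symm

theorem RS_empty {a : SI D.m} {r : Γ} (hr : r ∈ L.RS a ∅) : ∃ v, r = L.Z a v := by
  induction hr using Subgroup.closure_induction with
  | mem r hr =>
    rcases hr with hr | ⟨c, t, hc, -⟩
    · exact hr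
    · simp at hc
  | one => exact ⟨0, (L.Z_zero a).symm⟩
  | mul _ _ _ _ ih ih' =>
    obtain ⟨v, rfl⟩ := ih; obtain ⟨v', rfl⟩ := ih'
    exact ⟨_, L.Z_add a v v'⟩
  | inv _ _ ih =>
    obtain ⟨v, rfl⟩ := ih
    exact ⟨_, L.Z_inv a v⟩

/-- Only `1` in the radical fixes the line of `e a.swap`. -/
theorem R_trivial {a : SI D.m} {r : Γ} (hr : r ∈ L.R a) {k : F}
    (h : app (L.σ r) (D.e a.swap) = k • D.e a.swap) : r = 1 := by
  have key : ∀ S : Finset (SI D.m), r ∈ L.RS a S → r ∈ L.RS a ∅ := by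
    intro S
    induction S using Finset.induction with
    | empty => exact id
    | @insert c S hcS ih =>
      intro hr
      by_cases hl : (ix a).val < (ix c).val
      · obtain ⟨y, hy, t, e⟩ := L.RS_split hl S hr
        have hac := ne_ix_of_lt hl
        have hX : L.X a c t ∈ L.RS a (insert c S) :=
          Subgroup.subset_closure (Or.inr ⟨c, t, Finset.mem_insert_self _ _, hl, rfl⟩)
        obtain ⟨k', hk⟩ := L.R_disp (L.RS_mono a (Finset.subset_insert _ _) hy) _ hX
        rw [← e, h] at hk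
        have h2 := congrFun hk (Sum.inl c)
        rw [Pi.add_apply, Pi.add_apply, L.RS_coord hy hcS hl, L.σ_X hac, D.app_x_e hac, if_pos rfl,
          if_neg (fun e' => hac (by rw [op_inj e']))] at h2
        have hca : c ≠ a := fun e' => hac (by rw [e'])
        have hca' : c ≠ a.swap := fun e' => hac (by rw [e', ix_op])
        simp [Datum.e, hca, hca'] at h2
        rw [← h2, L.X_zero hac, mul_one] at e
        exact ih (e ▸ hy)
      · refine ih (Subgroup.closure_mono ?_ hr)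
        rintro x (hx | ⟨d, t, hd, hdl, e⟩)
        · exact Or.inl hx
        · rcases Finset.mem_insert.mp hd with rfl | hd
          · exact absurd hdl hl
          · exact Or.inr ⟨d, t, hd, hdl, e⟩
  obtain ⟨v, rfl⟩ := L.RS_empty (key _ hr)
  rw [σ_Z, D.app_z_op] at h
  have hv : v = 0 := by
    refine QuadraticAlgebra.ext ?_ ?_
    · simpa [Datum.e, Datum.j] using congrFun h (Sum.inr 0)
    · simpa [Datum.e, Datum.j] using congrFun h (Sum.inr 1)
  rw [hv, L.Z_zero]

variable [Finite F]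

/-- The elements of smaller index are eigenvectors. -/
theorem GJ_line {j : ℕ} {g : Γ} (hg : g ∈ L.GJ j) :
    ∀ x : SI D.m, (ix x).val < j → ∃ k : F, app (L.σ g) (D.e x) = k • D.e x := by
  intro x hx
  rw [GJ, Subgroup.sup_eq_closure] at hg
  have hmul : ∀ p q : Γ, (∃ k : F, app (L.σ p) (D.e x) = k • D.e x) → (∃ k : F, app (L.σ q) (D.e x) = k • D.e x) →
      ∃ k : F, app (L.σ (p * q)) (D.e x) = k • D.e x := by
    rintro p q ⟨k, hk⟩ ⟨l, hl⟩
    exact ⟨l * k, by rw [map_mul, app_mul, hl, app_smul, hk, smul_smul]⟩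
  have hinv : ∀ p : Γ, (∃ k : F, app (L.σ p) (D.e x) = k • D.e x) →
      ∃ k : F, app (L.σ p⁻¹) (D.e x) = k • D.e x := by
    rintro p ⟨k, hk⟩
    have hk0 : k ≠ 0 := fun e => D.e_ne_zero x (app_injective (L.σ p) (by rw [hk, e, zero_smul, app_zero]))
    exact ⟨k⁻¹, app_injective (L.σ p) (by
      rw [map_inv, app_app_inv, app_smul, hk, smul_smul, inv_mul_cancel₀ hk0, one_smul])⟩
  induction hg using Subgroup.closure_induction with
  | mem g hg =>
    rcases hg with hg | hg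
    · obtain ⟨k, c, M⟩ := L.mono_T hg; exact ⟨k x, M.he x⟩
    · induction hg using Subgroup.closure_induction with
      | mem g hg =>
        rcases hg with ⟨b, d, s, hbd, hb, hd, rfl⟩ | ⟨b, v, hb, rfl⟩
        · refine ⟨1, ?_⟩
          rw [L.σ_X hbd, one_smul, D.app_x_fix hbd]
          · intro e; rw [e, ix_op] at hx; omega
          · intro e; rw [e, ix_op] at hx; omega
        · refine ⟨1, ?_⟩
          rw [σ_Z, one_smul, D.app_z_fix]
          intro e; rw [e, ix_op] at hx; omega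
      | one => exact ⟨1, by rw [map_one, app_one, one_smul]⟩
      | mul p q _ _ ih ih' => exact hmul p q ih ih'
      | inv p _ ih => exact hinv p ih
  | one => exact ⟨1, by rw [map_one, app_one, one_smul]⟩
  | mul p q _ _ ih ih' => exact hmul p q ih ih'
  | inv p _ ih => exact hinv p ih

theorem P_line {a : SI D.m} {p : Γ} (hp : p ∈ L.P a) : ∃ k : F, app (L.σ p) (D.e a) = k • D.e a := by
  obtain ⟨g, hg, r, hr, rfl⟩ := L.P_gr hp
  obtain ⟨k, hk⟩ := L.GJ_line hg a (Nat.lt_succ_self _)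
  exact ⟨k, by rw [map_mul, app_mul, (L.R_fix hr).1, hk]⟩

/-! ### Double cosets -/

/-- Representatives at `a`. -/
def Rep (a : SI D.m) (y : Γ) : Prop :=
  y = 1 ∨ y = L.N a 1 ∨ ∃ k : Fin D.m, k.val = (ix a).val + 1 ∧ y = L.W a (Sum.inr k) 1

/-- The union of the double cosets. -/
def Sig (a : SI D.m) (g : Γ) : Prop :=
  ∃ p ∈ L.P a, ∃ y, L.Rep a y ∧ ∃ q ∈ L.P a, g = p * y * q

theorem Sig.left {a : SI D.m} {g p : Γ} (hp : p ∈ L.P a) (h : L.Sig a g) : L.Sig a (p * g) := by
  obtain ⟨p', hp', y, hy, q, hq, rfl⟩ := h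
  exact ⟨p * p', mul_mem hp hp', y, hy, q, hq, by group⟩

theorem Sig.right {a : SI D.m} {g p : Γ} (hp : p ∈ L.P a) (h : L.Sig a g) : L.Sig a (g * p) := by
  obtain ⟨p', hp', y, hy, q, hq, rfl⟩ := h
  exact ⟨p', hp', y, hy, q * p, mul_mem hq hp, by group⟩

theorem Sig.of_rep {a : SI D.m} {y : Γ} (h : L.Rep a y) : L.Sig a y :=
  ⟨1, one_mem _, y, h, 1, one_mem _, by group⟩

theorem Sig.of_P {a : SI D.m} {p : Γ} (h : p ∈ L.P a) : L.Sig a p :=
  ⟨p, h, 1, Or.inl rfl, 1, one_mem _, by group⟩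

theorem Sig_N {a : SI D.m} {v : D.K} (hv : v ≠ 0) : L.Sig a (L.N a v) := by
  rw [show L.N a v = (L.N a v * (L.N a 1)⁻¹) * L.N a 1 by group]
  exact Sig.left L (L.T_le_P a (L.N_mul_inv_mem a hv one_ne_zero)) (Sig.of_rep L (Or.inr (Or.inl rfl)))

theorem Sig_W {a : SI D.m} {k : Fin D.m} (hk : k.val = (ix a).val + 1) {t : F} (ht : t ≠ 0) :
    L.Sig a (L.W a (Sum.inr k) t) := by
  have h : ix a ≠ ix (Sum.inr k : SI D.m) := fun e => by
    have := congrArg Fin.val e; simp [ix] at this; simp [ix] at hk; omega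
  rw [show L.W a (Sum.inr k) t = (L.W a (Sum.inr k) t * (L.W a (Sum.inr k) 1)⁻¹) * L.W a (Sum.inr k) 1 by group]
  exact Sig.left L (L.T_le_P a (L.W_mul_inv_mem h ht one_ne_zero))
    (Sig.of_rep L (Or.inr (Or.inr ⟨k, hk, rfl⟩)))

section Step

variable {j k : Fin D.m}

local notation "aa" => (Sum.inl j : SI D.m)
local notation "bb" => (Sum.inr k : SI D.m)
local notation "cc" => (Sum.inl k : SI D.m)

variable (hk : k.val = j.val + 1)
include hk

theorem ix_ab : ix aa ≠ ix bb := fun e => by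
  have := congrArg Fin.val e; simp [ix] at this; omega

theorem Pc_le : L.P cc ≤ L.GJ (j.val + 1) := by
  refine sup_le ((Subgroup.closure_le _).mpr ?_) (L.GJ_anti (by show j.val + 1 ≤ k.val + 1; omega))
  rintro x (⟨v, rfl⟩ | ⟨d, t, -, hd, rfl⟩)
  · exact L.Z_mem_GJ (show j.val + 1 ≤ k.val by omega) v
  · exact L.X_mem_GJ (ne_ix_of_lt hd) (show j.val + 1 ≤ k.val by omega)
      (show j.val + 1 ≤ (ix d).val by have : k.val < (ix d).val := hd; omega) t

/-- The Weyl element carries the next parabolic subgroup into this one. -/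
theorem conj_Pc {t : F} (ht : t ≠ 0) {p : Γ} (hp : p ∈ L.P cc) :
    L.W aa bb t * p * (L.W aa bb t)⁻¹ ∈ L.P aa := by
  have hab := ix_ab hk
  have M := L.mono_W hab ht
  obtain ⟨g, hg, r, hr, rfl⟩ := L.P_gr hp
  rw [show L.W aa bb t * (g * r) * (L.W aa bb t)⁻¹ = (L.W aa bb t * g * (L.W aa bb t)⁻¹) *
    (L.W aa bb t * r * (L.W aa bb t)⁻¹) by group]
  have hfix : ∀ x : SI D.m, k.val < (ix x).val → wPerm aa bb x = x := fun x hx =>
    wPerm_fix (fun e => by have : (ix x).val = j.val := congrArg Fin.val e; omega)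
      (fun e => by have : (ix x).val = k.val := congrArg Fin.val e; omega)
  refine mul_mem (L.GJ_le_P aa ?_) (L.R_le_P aa ?_)
  · refine L.conj_GJ_mem M (fun x hx => ?_) hg
    have hx' : k.val < (ix x).val := hx
    rw [hfix x hx']
    show j.val + 1 ≤ _
    omega
  · have hc : wPerm aa bb cc = aa := by simp [wPerm]
    refine conj_mem_closure _ ?_ hr
    rintro y (⟨v, rfl⟩ | ⟨d, s, -, hd, rfl⟩)
    · rw [L.conj_Z M, hc]; exact L.Z_mem_R _ _
    · have hd' : k.val < (ix d).val := hd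
      rw [L.conj_X M (ne_ix_of_lt hd), hc, hfix d hd']
      exact L.X_mem_R (a := aa) (show j.val < (ix d).val by omega) _

theorem conj_Pc' {p : Γ} (hp : p ∈ L.P cc) :
    (L.W aa bb 1)⁻¹ * p * L.W aa bb 1 ∈ L.P aa := by
  have h := L.conj_Pc hk (neg_ne_zero.mpr one_ne_zero) hp
  rwa [← L.W_inv (ix_ab hk), inv_inv] at h

/-- The Weyl element carries the radical, one root apart, into the parabolic subgroup. -/
theorem conj_RS {t : F} (ht : t ≠ 0) {r : Γ} (hr : r ∈ L.RS aa (Finset.univ.erase bb)) :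
    L.W aa bb t * r * (L.W aa bb t)⁻¹ ∈ L.P aa := by
  have hab := ix_ab hk
  have M := L.mono_W hab ht
  have ha : wPerm aa bb aa = cc := by simp [wPerm]
  refine conj_mem_closure _ ?_ hr
  rintro y (⟨v, rfl⟩ | ⟨d, s, hd', hd, rfl⟩)
  · rw [L.conj_Z M, ha]
    exact L.GJ_le_P aa (L.Z_mem_GJ (show j.val + 1 ≤ k.val by omega) _)
  · have hdb : d ≠ bb := (Finset.mem_erase.mp hd').1
    rw [L.conj_X M (ne_ix_of_lt hd), ha]
    have hd2 : j.val < (ix d).val := hd
    by_cases e : ix d = k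
    · have hdc : d = cc := by
        rcases d with d | d
        · exact congrArg Sum.inl e
        · exact absurd (congrArg Sum.inr e) hdb
      rw [hdc, show wPerm aa bb cc = aa by simp [wPerm],
        L.X_flip (show ix aa ≠ ix cc from hab)]
      refine L.R_le_P aa (L.X_mem_R (a := aa) ?_ _)
      show j.val < k.val
      omega
    · have hfix : wPerm aa bb d = d :=
        wPerm_fix (fun e' => by have : (ix d).val = j.val := congrArg Fin.val e'; omega) e
      rw [hfix]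
      exact L.GJ_le_P aa (L.X_mem_GJ (fun h => e h.symm) (show j.val + 1 ≤ k.val by omega)
        (show j.val + 1 ≤ (ix d).val by omega) _)

theorem wXw (s : F) : L.Sig aa (L.W aa bb 1 * L.X aa bb s * L.W aa bb 1) := by
  have hab := ix_ab hk
  have hab' : ix (aa).swap ≠ ix (bb).swap := by rwa [ix_op, ix_op]
  have hT := L.T_le_P aa (L.W_mul_W_mem hab one_ne_zero one_ne_zero)
  by_cases hs : s = 0
  · rw [hs, L.X_zero hab, mul_one]; exact Sig.of_P L hT
  set w := L.W aa bb 1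
  have e1 : w * L.X aa bb s * w⁻¹ = L.X (aa).swap (bb).swap s := by
    rw [L.conj_X (L.mono_W hab one_ne_zero) hab, show wPerm aa bb aa = (bb).swap by simp [wPerm],
      show wPerm aa bb bb = (aa).swap by simp [wPerm], show wCoef aa bb (1 : F) aa = 1 by simp [wCoef],
      show wCoef aa bb (1 : F) bb = -1 by simp [wCoef], L.X_flip hab']
    congr 1
    ring
  have e2 : L.X (aa).swap (bb).swap s = L.X aa bb (-s⁻¹) * L.W aa bb s⁻¹ * L.X aa bb (-s⁻¹) := by
    rw [W, inv_inv, ← L.X_inv hab]; group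
  rw [show w * L.X aa bb s * w = (w * L.X aa bb s * w⁻¹) * (w * w) by group, e1, e2]
  have hX : L.X aa bb (-s⁻¹) ∈ L.P aa := L.R_le_P aa (L.X_mem_R (a := aa) (c := bb) (show j.val < k.val by omega) _)
  exact Sig.right L hT (Sig.right L hX (Sig.left L hX (L.Sig_W hk (inv_ne_zero hs))))

theorem wXNw (s : F) {v : D.K} (hv : v ≠ 0) :
    L.Sig aa (L.W aa bb 1 * L.X aa bb s * L.N cc v * L.W aa bb 1) := by
  have hab := ix_ab hk
  have hac : ix aa ≠ ix cc := hab
  set w := L.W aa bb 1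
  have M1 := L.mono_W hab (neg_ne_zero.mpr (one_ne_zero (α := F)))
  have MN := L.mono_N cc (neg_ne_zero.mpr hv)
  obtain ⟨s', e1⟩ : ∃ s', (L.N cc v)⁻¹ * L.X aa bb s * L.N cc v = L.X aa cc s' := by
    refine Exists.intro ?_ ?h
    case h => rw [show (L.N cc v)⁻¹ * L.X aa bb s * L.N cc v = L.N cc (-v) * L.X aa bb s * (L.N cc (-v))⁻¹ by
        rw [← L.N_inv, inv_inv], L.conj_X MN hab,
      show D.flipAt cc aa = aa by simp [Datum.flipAt, hac],
      show D.flipAt cc bb = cc by simp [Datum.flipAt, ix]]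
  obtain ⟨s'', e2⟩ : ∃ s'', w⁻¹ * L.X aa cc s' * w = L.X cc aa s'' := by
    refine Exists.intro ?_ ?h
    case h => rw [L.W_inv hab, show w = (L.W aa bb (-1))⁻¹ by rw [L.W_inv hab, neg_neg], L.conj_X M1 hac,
      show wPerm aa bb aa = cc by simp [wPerm],
      show wPerm aa bb cc = aa by simp [wPerm]]
  have e3 : w * L.X aa bb s * L.N cc v * w = (w * L.N cc v * w⁻¹) * (w * w) * L.X cc aa s'' := by
    rw [← e2, ← e1]; group
  rw [e3]
  refine Sig.right L ?_ (Sig.right L (L.T_le_P aa (L.W_mul_W_mem hab one_ne_zero one_ne_zero)) ?_)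
  · rw [L.X_flip hac]
    refine L.R_le_P aa (L.X_mem_R (a := aa) ?_ _)
    show j.val < k.val
    omega
  · rw [L.conj_N (L.mono_W hab one_ne_zero), show wPerm aa bb cc = aa by simp [wPerm]]
    refine L.Sig_N (smul_ne_zero ((L.mono_W hab one_ne_zero).k_ne _) ?_)
    simpa [Datum.cj] using hv

theorem wXWw (s : F) {l : Fin D.m} (hl : l.val = k.val + 1) :
    L.Sig aa (L.W aa bb 1 * L.X aa bb s * L.W cc (Sum.inr l) 1 * L.W aa bb 1) := by
  have hab := ix_ab hk
  have hcd : ix cc ≠ ix (Sum.inr l : SI D.m) := ix_ab hl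
  have had : ix aa ≠ ix (Sum.inr l : SI D.m) := fun e => by
    have := congrArg Fin.val e; simp [ix] at this; omega
  have hjk : j ≠ k := fun e => hab e
  have hjl : j ≠ l := fun e => had e
  have hkl : k ≠ l := fun e => hcd e
  set w := L.W aa bb 1
  set y := L.W cc (Sum.inr l) 1
  have M1 := L.mono_W hab (neg_ne_zero.mpr (one_ne_zero (α := F)))
  have My := L.mono_W hcd (neg_ne_zero.mpr (one_ne_zero (α := F)))
  obtain ⟨s', e1⟩ : ∃ s', y⁻¹ * L.X aa bb s * y = L.X aa (Sum.inr l) s' := by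
    refine Exists.intro ?_ ?h
    case h => rw [L.W_inv hcd, show y = (L.W cc (Sum.inr l) (-1))⁻¹ by rw [L.W_inv hcd, neg_neg], L.conj_X My hab,
      show wPerm cc (Sum.inr l) aa = aa by simp [wPerm, hjk, hjl],
      show wPerm cc (Sum.inr l) bb = Sum.inr l by simp [wPerm, hkl]]
  obtain ⟨s'', e2⟩ : ∃ s'', w⁻¹ * L.X aa (Sum.inr l) s' * w = L.X cc (Sum.inr l) s'' := by
    refine Exists.intro ?_ ?h
    case h => rw [L.W_inv hab, show w = (L.W aa bb (-1))⁻¹ by rw [L.W_inv hab, neg_neg], L.conj_X M1 had,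
      show wPerm aa bb aa = cc by simp [wPerm],
      show wPerm aa bb (Sum.inr l) = Sum.inr l by simp [wPerm, hjl.symm, hkl.symm]]
  obtain ⟨u, hu, ew⟩ : ∃ u, u ≠ 0 ∧ w * y * w⁻¹ = L.W aa (Sum.inr l) u := by
    refine ⟨_, mul_ne_zero (mul_ne_zero ((L.mono_W hab one_ne_zero).k_ne cc)
      ((L.mono_W hab one_ne_zero).k_ne (Sum.inr l))) one_ne_zero, ?_⟩
    rw [L.conj_W (L.mono_W hab one_ne_zero) hcd,
      show wPerm aa bb cc = aa by simp [wPerm, hjk.symm],
      show wPerm aa bb (Sum.inr l) = Sum.inr l by simp [wPerm, hjl.symm, hkl.symm]]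
  obtain ⟨u', hu', ey⟩ : ∃ u, u ≠ 0 ∧ y * w * y⁻¹ = L.W aa (Sum.inr l) u := by
    refine ⟨_, mul_ne_zero (mul_ne_zero ((L.mono_W hcd one_ne_zero).k_ne aa)
      ((L.mono_W hcd one_ne_zero).k_ne bb)) one_ne_zero, ?_⟩
    rw [L.conj_W (L.mono_W hcd one_ne_zero) hab,
      show wPerm cc (Sum.inr l) aa = aa by simp [wPerm, hjk, hjl],
      show wPerm cc (Sum.inr l) bb = Sum.inr l by simp [wPerm, hkl]]
  set τ := (w * y * w⁻¹) * (y * w * y⁻¹)⁻¹ with hτ
  have hτT : τ ∈ L.T := by rw [hτ, ew, ey]; exact L.W_mul_inv_mem had hu hu'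
  have e3 : w * L.X aa bb s * y * w = (τ * y) * w * (y⁻¹ * (w * w) * L.X cc (Sum.inr l) s'') := by
    rw [← e2, ← e1, hτ]; group
  rw [e3]
  have hy : y ∈ L.P aa := L.GJ_le_P aa
    (L.W_mem_GJ hcd (show j.val + 1 ≤ k.val by omega) (show j.val + 1 ≤ l.val by omega) _)
  refine Sig.right L (mul_mem (mul_mem (inv_mem hy) (L.T_le_P aa (L.W_mul_W_mem hab one_ne_zero one_ne_zero))) ?_)
    (Sig.left L (mul_mem (L.T_le_P aa hτT) hy) (L.Sig_W hk one_ne_zero))
  exact L.GJ_le_P aa (L.X_mem_GJ hcd (show j.val + 1 ≤ k.val by omega) (show j.val + 1 ≤ l.val by omega) _)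

theorem wXn (s : F) : L.Sig aa (L.W aa bb 1 * L.X aa bb s * L.N aa 1) := by
  have hab := ix_ab hk
  have hab' : ix (aa).swap ≠ ix (bb).swap := by rwa [ix_op, ix_op]
  set w := L.W aa bb 1
  obtain ⟨v, hv, en⟩ : ∃ v, v ≠ 0 ∧ w * L.N aa 1 * w⁻¹ = L.N cc v := by
    refine ⟨_, ?_, (L.conj_N (L.mono_W hab one_ne_zero) aa 1).trans
      (by rw [show wPerm aa bb aa = cc by simp [wPerm]])⟩
    exact smul_ne_zero ((L.mono_W hab one_ne_zero).k_ne _) (by simp [Datum.cj])
  have hN : L.N cc v ∈ L.P aa := L.GJ_le_P aa (L.N_mem_GJ (show j.val + 1 ≤ k.val by omega) v)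
  by_cases hs : s = 0
  · rw [hs, L.X_zero hab, mul_one, show w * L.N aa 1 = (w * L.N aa 1 * w⁻¹) * w by group, en]
    exact Sig.left L hN (L.Sig_W hk one_ne_zero)
  have e1 : w * L.X aa bb s * w⁻¹ = L.X (aa).swap (bb).swap s := by
    rw [L.conj_X (L.mono_W hab one_ne_zero) hab, show wPerm aa bb aa = (bb).swap by simp [wPerm],
      show wPerm aa bb bb = (aa).swap by simp [wPerm], show wCoef aa bb (1 : F) aa = 1 by simp [wCoef],
      show wCoef aa bb (1 : F) bb = -1 by simp [wCoef], L.X_flip hab']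
    congr 1
    ring
  have e2 : L.X (aa).swap (bb).swap s = L.X aa bb (-s⁻¹) * L.W aa bb s⁻¹ * L.X aa bb (-s⁻¹) := by
    rw [W, inv_inv, ← L.X_inv hab]; group
  have e3 : w * L.X aa bb s * L.N aa 1 = (L.X aa bb (-s⁻¹) * (L.W aa bb s⁻¹ * w⁻¹)) *
      (w * L.X aa bb (-s⁻¹) * L.N cc v * w) := by
    rw [← en, show w * L.X aa bb s * L.N aa 1 = (w * L.X aa bb s * w⁻¹) * (w * L.N aa 1 * w⁻¹) * w by group,
      e1, e2]
    group
  rw [e3]
  exact Sig.left L (mul_mem (L.R_le_P aa (L.X_mem_R (a := aa) (c := bb) (show j.val < k.val by omega) _))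
    (L.T_le_P aa (L.W_mul_inv_mem hab (inv_ne_zero hs) one_ne_zero))) (L.wXNw hk _ hv)

/-- The union of the cosets is stable under the Weyl element. -/
theorem step_closed (ih : ∀ g ∈ L.GJ (j.val + 1), L.Sig cc g) {g : Γ} (hg : L.Sig aa g) :
    L.Sig aa (L.W aa bb 1 * g) := by
  obtain ⟨p, hp, y, hy, q, hq, rfl⟩ := hg
  rw [show L.W aa bb 1 * (p * y * q) = L.W aa bb 1 * p * y * q by group]
  refine Sig.right L hq ?_
  set w := L.W aa bb 1
  have hsplit : ∀ r ∈ L.R aa, ∃ r' ∈ L.RS aa (Finset.univ.erase bb), ∃ s, r = r' * L.X aa bb s := by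
    intro r hr
    refine L.RS_split (a := aa) (c := bb) (show j.val < k.val by omega) _ ?_
    rw [Finset.insert_erase (Finset.mem_univ _)]
    exact hr
  rcases hy with rfl | rfl | ⟨k', hk', rfl⟩
  · rw [mul_one]
    exact Sig.right L hp (L.Sig_W hk one_ne_zero)
  · obtain ⟨r, hr, g, hg, rfl⟩ := L.P_rg hp
    obtain ⟨r', hr', s, rfl⟩ := hsplit r hr
    set n := L.N aa 1
    rw [show w * (r' * L.X aa bb s * g) * n = (w * r' * w⁻¹) * (w * L.X aa bb s * n) * (n⁻¹ * g * n) by group]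
    refine Sig.right L (L.GJ_le_P aa ?_) (Sig.left L (L.conj_RS hk one_ne_zero hr') (L.wXn hk s))
    have h : L.N aa (-1) * g * (L.N aa (-1))⁻¹ ∈ L.GJ (j.val + 1) := by
      refine L.conj_GJ_mem (L.mono_N aa (neg_ne_zero.mpr one_ne_zero)) (fun x hx => ?_) hg
      have hne : ix x ≠ ix aa := fun e => by
        have := congrArg Fin.val e; simp [ix] at this hx; omega
      show j.val + 1 ≤ _
      rw [Datum.flipAt, if_neg hne]
      exact hx
    rwa [← L.N_inv, inv_inv] at h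
  · have ek : k' = k := Fin.ext (by simp [ix] at hk'; omega)
    subst k'
    obtain ⟨r, hr, g, hg, rfl⟩ := L.P_rg hp
    obtain ⟨p₁, hp₁, y', hy', q₁, hq₁, rfl⟩ := ih g hg
    have hr₁ := (L.normalise (a := aa) (L.Pc_le hk hp₁) r hr).2
    obtain ⟨r', hr', s, hs⟩ := hsplit _ hr₁
    have e : w * (r * (p₁ * y' * q₁)) * w =
        (w * p₁ * w⁻¹) * ((w * r' * w⁻¹) * (w * L.X aa bb s * y' * w)) * (w⁻¹ * q₁ * w) := by
      rw [show r * (p₁ * y' * q₁) = p₁ * (p₁⁻¹ * r * p₁) * y' * q₁ by group, hs]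
      group
    rw [e]
    refine Sig.right L (L.conj_Pc' hk hq₁) (Sig.left L (L.conj_Pc hk one_ne_zero hp₁)
      (Sig.left L (L.conj_RS hk one_ne_zero hr') ?_))
    rcases hy' with rfl | rfl | ⟨l, hl, rfl⟩
    · rw [mul_one]; exact L.wXw hk s
    · exact L.wXNw hk s one_ne_zero
    · exact L.wXWw hk s hl

/-- The short Weyl element is generated by the parabolic subgroup and the long one. -/
theorem N_mem_gen : L.N aa 1 ∈ Subgroup.closure ((L.P aa : Set Γ) ∪ {L.W aa bb 1}) := by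
  have hab := ix_ab hk
  set w := L.W aa bb 1
  obtain ⟨v, hv, en⟩ : ∃ v, v ≠ 0 ∧ w * L.N cc 1 * w⁻¹ = L.N aa v := by
    refine ⟨_, ?_, (L.conj_N (L.mono_W hab one_ne_zero) cc 1).trans
      (by rw [show wPerm aa bb cc = aa by simp [wPerm]])⟩
    exact smul_ne_zero ((L.mono_W hab one_ne_zero).k_ne _) (by simp [Datum.cj])
  rw [show L.N aa 1 = (L.N aa 1 * (L.N aa v)⁻¹) * L.N aa v by group, ← en]
  have hP : ∀ p ∈ L.P aa, p ∈ Subgroup.closure ((L.P aa : Set Γ) ∪ {w}) := fun p hp =>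
    Subgroup.subset_closure (Or.inl hp)
  have hw : w ∈ Subgroup.closure ((L.P aa : Set Γ) ∪ {w}) := Subgroup.subset_closure (Or.inr rfl)
  refine mul_mem ?_ (mul_mem (mul_mem hw (hP _ (L.GJ_le_P aa (L.N_mem_GJ (show j.val + 1 ≤ k.val by omega) 1))))
    (inv_mem hw))
  rw [en]
  exact hP _ (L.T_le_P aa (L.N_mul_inv_mem _ one_ne_zero hv))

end Step

/-- The subgroup of an index is generated by its parabolic subgroup and one Weyl element. -/
theorem GJ_le_gen (j : Fin D.m) : L.GJ j.val ≤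
    Subgroup.closure ((L.P (Sum.inl j) : Set Γ) ∪ {L.N (Sum.inl j) 1}) := by
  set a : SI D.m := Sum.inl j
  set n := L.N a 1
  set H := Subgroup.closure ((L.P a : Set Γ) ∪ {n})
  have hP : ∀ p ∈ L.P a, p ∈ H := fun p hp => Subgroup.subset_closure (Or.inl hp)
  have hn : n ∈ H := Subgroup.subset_closure (Or.inr rfl)
  have M := L.mono_N a (one_ne_zero (α := D.K))
  have hfa : D.flipAt a a = a.swap := by simp [Datum.flipAt]
  have hop : ∀ y ∈ L.R a, n * y * n⁻¹ ∈ H := fun y hy => mul_mem (mul_mem hn (hP _ (L.R_le_P a hy))) (inv_mem hn)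
  have hX : ∀ {b : SI D.m}, ix b = j → ∀ {c : SI D.m}, j.val < (ix c).val → ∀ t, L.X b c t ∈ H := by
    intro b hb c hc t
    rcases eq_or_eq_op (b := a) hb with e | e <;> rw [e]
    · exact hP _ (L.R_le_P a (L.X_mem_R (a := a) (c := c) hc t))
    · have hc' : ix c ≠ ix a := fun e' => by rw [e'] at hc; exact lt_irrefl _ hc
      have hk := mul_ne_zero (M.k_ne a) (M.k_ne c)
      have he := hop _ (L.X_mem_R (a := a) (c := c) hc (t / (D.nCoef a 1 a * D.nCoef a 1 c)))
      rwa [L.conj_X M (Ne.symm hc'), hfa, show D.flipAt a c = c by simp [Datum.flipAt, hc'],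
        mul_div_cancel₀ _ hk] at he
  refine sup_le (fun x hx => hP x (L.T_le_P a hx)) ((Subgroup.closure_le _).mpr ?_)
  rintro x (⟨b, c, t, hbc, hb, hc, rfl⟩ | ⟨b, v, hb, rfl⟩)
  · rcases Nat.lt_or_eq_of_le hb with hb | hb
    · rcases Nat.lt_or_eq_of_le hc with hc | hc
      · exact hP _ (L.GJ_le_P a (L.X_mem_GJ hbc hb hc t))
      · show L.X b c t ∈ H
        rw [L.X_flip (Ne.symm hbc)]
        exact hX (Fin.ext hc.symm) hb _
    · refine hX (Fin.ext hb.symm) ?_ t
      rcases Nat.lt_or_eq_of_le hc with hc | hc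
      · exact hc
      · exact absurd (Fin.ext (hb.symm.trans hc)) hbc
  · rcases Nat.lt_or_eq_of_le hb with hb | hb
    · exact hP _ (L.GJ_le_P a (L.Z_mem_GJ hb v))
    · show L.Z b v ∈ H
      rcases eq_or_eq_op (b := a) (Fin.ext hb.symm : ix b = ix a) with e | e <;> rw [e]
      · exact hP _ (L.R_le_P a (L.Z_mem_R a v))
      · obtain ⟨u, hu⟩ : ∃ u : D.K, D.nCoef a 1 a • (-((1 : D.K) / star 1) * D.cj true u) = v := by
          refine ⟨-star ((D.nCoef a 1 a)⁻¹ • v), ?_⟩
          have hk := M.k_ne a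
          simp [Datum.cj, star_one, hk]
        have he := hop _ (L.Z_mem_R a u)
        rwa [L.conj_Z M, hfa, hu] at he

/-- The double coset decomposition. -/
theorem cells : ∀ (d : ℕ) (j : Fin D.m), j.val + d + 1 = D.m → ∀ g ∈ L.GJ j.val, L.Sig (Sum.inl j) g := by
  intro d
  induction d with
  | zero =>
    intro j hj g hg
    set a : SI D.m := Sum.inl j
    set n := L.N a 1
    have hnn : n * n ∈ L.T := L.N_mul_mem a one_ne_zero one_ne_zero
    have M := L.mono_N a (one_ne_zero (α := D.K))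
    have hno : ∀ y, L.Rep a y → y = 1 ∨ y = n := by
      rintro y (h | h | ⟨k, hk, -⟩)
      · exact Or.inl h
      · exact Or.inr h
      · exfalso; have := k.isLt; simp [ix, a] at hk; omega
    have hstep : ∀ g, L.Sig a g → L.Sig a (n * g) := by
      intro g hg
      obtain ⟨p, hp, y, hy, q, hq, rfl⟩ := hg
      rw [show n * (p * y * q) = n * p * y * q by group]
      refine Sig.right L hq ?_
      rcases hno y hy with rfl | rfl
      · rw [mul_one]; exact Sig.right L hp (L.Sig_N one_ne_zero)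
      obtain ⟨r, hr, g, hg, rfl⟩ := L.P_rg hp
      obtain ⟨v, rfl⟩ : ∃ v, r = L.Z a v := by
        refine L.RS_empty ((Subgroup.closure_mono ?_ : L.R a ≤ L.RS a ∅) hr)
        rintro x (hx | ⟨c, t, -, hc, -⟩)
        · exact Or.inl hx
        · exfalso; have := (ix c).isLt; simp [ix, a] at hc; simp [ix] at this; omega
      rw [show n * (L.Z a v * g) * n = (n * L.Z a v * n⁻¹) * (n * n) * (n⁻¹ * g * n) by group]
      have hgn : n⁻¹ * g * n ∈ L.P a := by
        refine L.GJ_le_P a ?_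
        have h : L.N a (-1) * g * (L.N a (-1))⁻¹ ∈ L.GJ ((ix a).val + 1) :=
          L.conj_GJ_mem (L.mono_N a (neg_ne_zero.mpr one_ne_zero)) (fun x hx => by
            exfalso; have := (ix x).isLt; simp [ix, a] at hx; simp [ix] at this; omega) hg
        rwa [← L.N_inv, inv_inv] at h
      refine Sig.right L hgn (Sig.right L (L.T_le_P a hnn) ?_)
      rw [L.conj_Z M, show D.flipAt a a = a.swap by simp [Datum.flipAt]]
      generalize D.nCoef a 1 a • (-((1 : D.K) / star 1) * D.cj true v) = x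
      by_cases hx : x = 0
      · rw [hx, L.Z_zero]; exact Sig.of_P L (one_mem _)
      have hN := D.norm_ne hx
      set u := (QuadraticAlgebra.norm x)⁻¹ • x
      have hu : u ≠ 0 := smul_ne_zero (inv_ne_zero hN) hx
      have e : L.Z a.swap x = (L.Z a u)⁻¹ * L.N a u * (L.Z a u)⁻¹ := by
        have hx' : (QuadraticAlgebra.norm u)⁻¹ • u = x := by
          simp only [u]
          rw [norm_smul, smul_smul]
          convert one_smul F x
          field_simp
        rw [N, hx']; group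
      rw [e]
      have hZ : (L.Z a u)⁻¹ ∈ L.P a := inv_mem (L.R_le_P a (L.Z_mem_R a u))
      exact Sig.right L hZ (Sig.left L hZ (L.Sig_N hu))
    have hg' := L.GJ_le_gen j hg
    clear hg
    induction hg' using Subgroup.closure_induction_left with
    | one => exact Sig.of_P L (one_mem _)
    | mul_left x hx y _ ih =>
      rcases hx with hx | rfl
      · exact Sig.left L hx ih
      · exact hstep _ ih
    | inv_mul_cancel x hx y _ ih =>
      rcases hx with hx | rfl
      · exact Sig.left L (inv_mem hx) ih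
      · rw [show n⁻¹ = (n * n)⁻¹ * n by group, mul_assoc]
        exact Sig.left L (L.T_le_P a (inv_mem hnn)) (hstep _ ih)
  | succ d ih =>
    intro j hj g hg
    let k : Fin D.m := ⟨j.val + 1, by omega⟩
    have hk : k.val = j.val + 1 := rfl
    set a : SI D.m := Sum.inl j
    set w := L.W a (Sum.inr k) 1
    have hww : w * w ∈ L.T := L.W_mul_W_mem (ix_ab hk) one_ne_zero one_ne_zero
    have hi : ∀ g ∈ L.GJ (j.val + 1), L.Sig (Sum.inl k) g := ih k (by omega)
    have hg' : g ∈ Subgroup.closure ((L.P a : Set Γ) ∪ {w}) := by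
      refine (Subgroup.closure_le _).mpr ?_ (L.GJ_le_gen j hg)
      rintro x (hx | rfl)
      · exact Subgroup.subset_closure (Or.inl hx)
      · exact L.N_mem_gen hk
    clear hg
    induction hg' using Subgroup.closure_induction_left with
    | one => exact Sig.of_P L (one_mem _)
    | mul_left x hx y _ ih' =>
      rcases hx with hx | rfl
      · exact Sig.left L hx ih'
      · exact L.step_closed hk hi ih'
    | inv_mul_cancel x hx y _ ih' =>
      rcases hx with hx | rfl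
      · exact Sig.left L (inv_mem hx) ih'
      · rw [show w⁻¹ = (w * w)⁻¹ * w by group, mul_assoc]
        exact Sig.left L (L.T_le_P a (inv_mem hww)) (L.step_closed hk hi ih')

/-- The kernel lies in the torus. -/
theorem GJ_ker : ∀ (d j : ℕ), j + d = D.m → ∀ g ∈ L.GJ j, L.σ g = 1 → g ∈ L.T := by
  intro d
  induction d with
  | zero =>
    intro j hj g hg _
    refine (sup_le le_rfl ((Subgroup.closure_le _).mpr ?_) : L.GJ j ≤ L.T) hg
    rintro x (⟨a, b, t, -, ha, -⟩ | ⟨a, v, ha, -⟩) <;> (have := (ix a).isLt; omega)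
  | succ d ih =>
    intro j hj g hg hσ
    set j' : Fin D.m := ⟨j, by omega⟩
    set a : SI D.m := Sum.inl j'
    obtain ⟨p, hp, y, hy, q, hq, rfl⟩ := L.cells d j' (by simp [j']; omega) g hg
    have hy1 : y = 1 := by
      have hmov : ∀ {x : SI D.m} {k : F}, x ≠ a → k ≠ 0 → app (L.σ y) (D.e a) = k • D.e x → False := by
        intro x k hx hk he
        obtain ⟨k₁, h1⟩ := L.P_line (a := a) hq
        obtain ⟨k₂, h2⟩ := L.P_line (a := a) (inv_mem hp)
        have h := congrArg (fun g => app g (D.e a)) hσ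
        simp only [map_mul, app_mul, h1, app_smul, he, app_one] at h
        have h' := congrArg (app (L.σ p⁻¹)) h
        rw [map_inv] at h2 h'
        simp only [app_smul, app_inv_app, h2, smul_smul] at h'
        have hk1 : k₁ ≠ 0 := fun e => D.e_ne_zero a (app_injective (L.σ q) (by
          rw [h1, e, zero_smul, app_zero]))
        exact hx (D.e_inj h'.symm (mul_ne_zero hk1 hk)).symm
      rcases hy with e | e | ⟨k, hk, e⟩
      · exact e
      · exfalso
        refine hmov (x := a.swap) (op_ne a) ?_ ?_ (k := D.nCoef a 1 a)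
        · exact (L.mono_N a (one_ne_zero (α := D.K))).k_ne a
        · rw [e, (L.mono_N a (one_ne_zero (α := D.K))).he]; simp [Datum.flipAt]
      · exfalso
        have hab : ix a ≠ ix (Sum.inr k : SI D.m) := fun e' => by
          have := congrArg Fin.val e'; simp [ix, a] at this hk; omega
        refine hmov (x := (Sum.inr k : SI D.m).swap) ?_ ?_ ?_ (k := wCoef a (Sum.inr k) (1 : F) a)
        · intro e'; exact hab (by rw [← e', ix_op])
        · exact (L.mono_W hab one_ne_zero).k_ne a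
        · rw [e, (L.mono_W hab one_ne_zero).he]; simp [wPerm]
    subst hy1
    rw [mul_one] at hσ ⊢
    obtain ⟨g', hg', r, hr, e⟩ := L.P_gr (mul_mem hp hq)
    rw [e] at hσ ⊢
    obtain ⟨k, hk⟩ := L.GJ_line (inv_mem hg') a.swap (by simp [ix, a, j'])
    have hr1 : r = 1 := by
      refine L.R_trivial hr (k := k) ?_
      rw [map_mul] at hσ
      rw [eq_inv_of_mul_eq_one_right hσ, ← map_inv, hk]
    rw [hr1, mul_one] at hσ ⊢
    exact ih (j + 1) (by omega) g' hg' hσ

/-- On the subgroup generated by the root elements the kernel has at most two elements. -/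
theorem ker_le_two [Finite Γ] {g : Γ} (hg : g ∈ L.GJ 0) (h : L.σ g = 1) : g = 1 ∨ g = L.δ :=
  L.T_ker (L.GJ_ker D.m 0 (Nat.zero_add _) g hg h) h

end Ext

end Cfsg.Agent.Lib.Schur.MinusRoot
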