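import Cfsg.Agent.Lib.Schur.MinusRoot.Main

/-!
The Schur multiplier of `PΩ⁻_{2l}(q)` for `l ≥ 4`.
-/

set_option autoImplicit false
set_option linter.unusedSectionVars false

namespace Cfsg.Agent.Lib.Schur.MinusRoot

open QuadraticMap Cfsg.Agent.Lib.Orth Cfsg.Agent.Lib.Classical
open scoped commutatorElement

universe u

variable {F : Type u} [Field F] [Fintype F]

theorem gcd_four {N : ℕ} :
    (N % 2 = 1 → Nat.gcd 4 N = 1) ∧ (N % 4 = 2 → Nat.gcd 4 N = 2) ∧ (N % 4 = 0 → Nat.gcd 4 N = 4) := by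
  refine ⟨fun h => ?_, fun h => ?_, fun h => ?_⟩ <;> rw [Nat.gcd_rec]
  · rcases (show N % 4 = 1 ∨ N % 4 = 3 by omega) with e | e <;> rw [e] <;> rfl
  · rw [h]; rfl
  · rw [h]; rfl

/-- The multiplier of `PΩ⁻`. -/
theorem hasCyclic_minus {q : ℕ} (hF : Fintype.card F = q) (k : ℕ) (a b : F)
    (hab : BinAniso a b) :
    Cfsg.HasCyclicSchurMultiplier (Cfsg.POmega F ⇑(minusForm (k + 3) F a b)) (Nat.gcd 4 (q ^ (k + 4) + 1)) := by
  classical
  have han : ∀ r : F, r ^ 2 ≠ -b + a * r := fun r hr =>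
    one_ne_zero (α := F) (hab (-r) 1 (by linear_combination hr)).2
  let D : Datum F := ⟨k + 3, a, b, han⟩
  have hm : 3 ≤ D.m := Nat.le_add_left 3 k
  obtain ⟨Γ, _, _, π, L, hσ, hsurj, hcen, hperf, htriv⟩ := exists_univ (D := D) hm
  have hσmem : ∀ x, L.σ x ∈ Cfsg.Omega F ⇑D.Q := fun x => by rw [hσ]; exact (π x).2
  have hπσ : ∀ x, π x = 1 ↔ L.σ x = 1 := fun x => by rw [hσ]; exact Subtype.ext_iff
  have hpair : ∀ x, π x = 1 → x = 1 ∨ x = L.δ := fun x hx =>
    L.ker_le_two (by rw [L.GJ_zero_eq_top hperf hσmem]; exact Subgroup.mem_top _) ((hπσ x).1 hx)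
  have hcard := card_pre_eq π hsurj
  let M : TwoPlaneModel D.Q (hypTower (k + 1) (binQ a b)) := minusModel k a b
  have hI := isotropicNondeg_hypTower (nondeg_binQ hab) k
  have hcentre := M.natCard_center hI
  rcases Nat.even_or_odd q with he | ho
  · have h2 : (2 : F) = 0 := two_eq_zero_iff_even_card.2 (hF ▸ he)
    have hg : Nat.gcd 4 (q ^ (k + 4) + 1) = 1 := gcd_four.1 (by
      have := he.pow_of_ne_zero (show k + 4 ≠ 0 by omega)
      rw [Nat.even_iff] at this; omega)
    rw [hg]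
    have hker : Nat.card π.ker = 1 := by
      rw [Subgroup.card_eq_one, eq_bot_iff]
      intro x hx
      rcases hpair x hx with e | e
      · exact e
      · rw [e, L.δ_char_two h2]; exact one_mem _
    have hpre : Nat.card ↥((Subgroup.center ↥(Cfsg.Omega F ⇑D.Q)).comap π) = 1 := by
      rw [hcard, hker, hcentre.2 (Or.inl h2)]
    haveI := (Nat.card_eq_one_iff_unique.1 hpre).1
    exact hasMult_of_pre hperf htriv π hsurj hcen
      ({ toFun := fun _ => 1, invFun := fun _ => 1, left_inv := fun _ => Subsingleton.elim _ _,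
         right_inv := fun _ => Subsingleton.elim _ _, map_mul' := fun _ _ => (mul_one 1).symm } :
        ↥((Subgroup.center ↥(Cfsg.Omega F ⇑D.Q)).comap π) ≃* Multiplicative (ZMod 1))
  have h2 : (2 : F) ≠ 0 := two_ne_zero_of_odd_card (hF ▸ ho)
  -- the kernel is exactly a pair
  obtain ⟨X, _, ρ, hρ, hρc, z₀, hz, hz1⟩ := OrthMult.exists_double (Q := D.Q) h2 (M.nondegenerate hI)
    (M.card_index hI)
  obtain ⟨η, hη⟩ := exists_lift_of_trivial hperf htriv π ρ hρ hρc
  have hδ : L.δ ≠ 1 := by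
    intro hδ
    have hle : commutator X ≤ η.range := by
      rw [commutator_def, Subgroup.commutator_le]
      intro x _ y _
      obtain ⟨g, hg⟩ := hsurj (ρ x)
      obtain ⟨g', hg'⟩ := hsurj (ρ y)
      have hx : ρ (η g) = ρ x := by rw [← MonoidHom.comp_apply, hη, hg]
      have hy : ρ (η g') = ρ y := by rw [← MonoidHom.comp_apply, hη, hg']
      have h' := commutatorElement_mul_central (η g) (η g')
        (a := (η g)⁻¹ * x) (b := (η g')⁻¹ * y) (hρc (by simp [hx])) (hρc (by simp [hy]))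
      rw [mul_inv_cancel_left, mul_inv_cancel_left, ← map_commutatorElement] at h'
      exact ⟨_, h'.symm⟩
    obtain ⟨g, hg⟩ := hle hz.2
    have hπg : π g = 1 := by rw [← hη, MonoidHom.comp_apply, hg]; exact hz.1
    refine hz1 ?_
    rw [← hg]
    rcases hpair g hπg with e | e
    · rw [e, map_one]
    · rw [e, hδ, map_one]
  have hπδ : π L.δ = 1 := (hπσ _).2 L.σ_δ
  have hker : Nat.card π.ker = 2 := by
    rw [← SetLike.coe_sort_coe, Nat.card_coe_set_eq,
      show (π.ker : Set Γ) = {1, L.δ} from Set.ext fun x =>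
        ⟨fun hx => hpair x hx, fun hx => by rcases hx with rfl | rfl; exacts [one_mem _, hπδ]⟩,
      Set.ncard_pair hδ.symm]
  have hcrit := POmegaAut.negOne_mem_minus hF ho (k + 4) (by omega) a b hab
  rw [show k + 4 - 1 = k + 3 from rfl, ← coe_minusForm] at hcrit
  have hq4 : q ^ (k + 4) % 4 = 1 ∨ q ^ (k + 4) % 4 = 3 := by
    obtain ⟨r, hr⟩ := ho.pow (n := k + 4); omega
  haveI : Fact (Nat.Prime 2) := ⟨Nat.prime_two⟩
  rcases hq4 with h4 | h4
  · rw [gcd_four.2.1 (show (q ^ (k + 4) + 1) % 4 = 2 by omega)]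
    refine hasMult_of_pre hperf htriv π hsurj hcen (mulEquivOfPrimeCardEq (p := 2) ?_ (by simp))
    rw [hcard, hker, hcentre.2 (Or.inr fun hex => by have := hcrit.1 hex; omega)]
  rw [gcd_four.2.2 (show (q ^ (k + 4) + 1) % 4 = 0 by omega)]
  -- `q ≡ 3` modulo 4 and even rank of the hyperbolic part
  have hq : q % 4 = 3 ∧ Odd (k + 4) := by
    rcases Nat.even_or_odd (k + 4) with ⟨r, hr⟩ | hodd
    · exfalso
      rw [hr, ← two_mul, pow_mul, Nat.pow_mod] at h4
      have hsq : q ^ 2 % 4 = 1 := by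
        obtain ⟨s, rfl⟩ := ho
        rw [show (2 * s + 1) ^ 2 = 4 * (s * s + s) + 1 by ring]; omega
      rw [hsq, one_pow] at h4
      omega
    · refine ⟨?_, hodd⟩
      obtain ⟨r, hr⟩ := hodd
      rw [hr, pow_succ, pow_mul, Nat.mul_mod, Nat.pow_mod] at h4
      have hsq : q ^ 2 % 4 = 1 := by
        obtain ⟨s, rfl⟩ := ho
        rw [show (2 * s + 1) ^ 2 = 4 * (s * s + s) + 1 by ring]; omega
      rw [hsq, one_pow] at h4
      omega
  have hns : ¬ IsSquare (-1 : F) := fun h => by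
    have := FiniteField.isSquare_neg_one_iff.1 h; rw [hF] at this; exact this hq.1
  have hmev : Even D.m := by
    obtain ⟨r, hr⟩ := hq.2
    exact ⟨r, show k + 3 = r + r by omega⟩
  obtain ⟨c, hcc, hneg⟩ := L.exists_negOne_lift h2 hns hmev
  have hm1 : (((π c).1 : GL D.Idx F) : Matrix D.Idx D.Idx F) = -1 := by
    refine mat_eq fun v => ?_
    have h := hneg v
    rw [hσ] at h
    rw [Matrix.neg_mulVec, Matrix.one_mulVec]
    exact h
  have hex : ∃ g : ↥(Cfsg.isometryGroup F ⇑D.Q), g ∈ Cfsg.Omega F ⇑D.Q ∧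
      ((g : GL D.Idx F) : Matrix D.Idx D.Idx F) = -1 := ⟨_, (π c).2, hm1⟩
  have hc0 : π c ∈ Subgroup.center ↥(Cfsg.Omega F ⇑D.Q) := Subgroup.mem_center_iff.2 fun x =>
    Subtype.ext (isometry_ext fun v => by
      rw [Subgroup.coe_mul, Subgroup.coe_mul, app_mul, app_mul]
      show app x.1 (app (π c).1 v) = app (π c).1 (app x.1 v)
      have hn : ∀ w, app (π c).1 w = -w := fun w => by
        have h := hneg w
        rw [hσ] at h
        exact h
      rw [hn, hn, show -v = (-1 : F) • v from (neg_one_smul F v).symm, app_smul, neg_one_smul])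
  have hpre : Nat.card ↥((Subgroup.center ↥(Cfsg.Omega F ⇑D.Q)).comap π) = 4 := by
    rw [hcard, hker, hcentre.1 h2 hex]
  have hδ2 : L.δ * L.δ = 1 := by
    have h : (⟨L.δ, hπδ⟩ : π.ker) ^ 2 = 1 :=
      (congrArg (fun n => (⟨L.δ, hπδ⟩ : π.ker) ^ n) hker).symm.trans pow_card_eq_one'
    simpa [pow_two] using congrArg Subtype.val h
  have hord : orderOf (⟨c, hc0⟩ : ↥((Subgroup.center ↥(Cfsg.Omega F ⇑D.Q)).comap π)) = 4 := by
    refine (orderOf_eq_prime_pow (p := 2) (n := 1) ?_ ?_).trans (by norm_num)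
    · intro h
      exact hδ (by rw [← hcc]; simpa [pow_two] using congrArg Subtype.val h)
    · refine Subtype.ext ?_
      show c ^ 4 = 1
      rw [show c ^ 4 = (c * c) * (c * c) by simp [pow_succ, mul_assoc], hcc, hδ2]
  haveI := isCyclic_of_orderOf_eq_card _ (hord.trans hpre.symm)
  exact hasMult_of_pre hperf htriv π hsurj hcen (mulEquivOfCyclicCardEq (hpre.trans (by simp)))

end Cfsg.Agent.Lib.Schur.MinusRoot
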