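import Cfsg.Agent.Lib.Schur.MinusRoot.Model

/-!
Canonical lifts of the root elements of minus type in a central extension, `m ≥ 3`, every finite field: the
long root elements are commutators of lifted short ones, the short ones commutators with a lifted torus element.
-/

set_option autoImplicit false
set_option linter.unusedSectionVars false

namespace Cfsg.Agent.Lib.Schur.MinusRoot

open Cfsg.Agent.Lib.Orth
open scoped commutatorElement

universe u w

theorem op_inj {m : ℕ} {a b : SI m} (h : a.swap = b.swap) : a = b := by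
  have := congrArg Sum.swap h
  rwa [Sum.swap_swap, Sum.swap_swap] at this

section Comm

variable {G : Type*} [Group G]

/-- Commutators do not see central factors. -/
theorem comm_eq_of_central {x x' y y' : G} (hx : ∀ z, Commute (x⁻¹ * x') z) (hy : ∀ z, Commute (y⁻¹ * y') z) :
    ⁅x', y'⁆ = ⁅x, y⁆ := by
  obtain ⟨a, rfl, ha⟩ : ∃ a, x' = x * a ∧ ∀ z, Commute a z := ⟨x⁻¹ * x', by group, hx⟩
  obtain ⟨b, rfl, hb⟩ : ∃ b, y' = y * b ∧ ∀ z, Commute b z := ⟨y⁻¹ * y', by group, hy⟩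
  simp only [commutatorElement_def, mul_inv_rev]
  calc x * a * (y * b) * (a⁻¹ * x⁻¹) * (b⁻¹ * y⁻¹)
      = x * (a * (y * b) * a⁻¹) * x⁻¹ * (b⁻¹ * y⁻¹) := by group
    _ = x * (y * b) * x⁻¹ * (b⁻¹ * y⁻¹) := by rw [(ha (y * b)).eq, mul_inv_cancel_right]
    _ = x * y * (b * x⁻¹ * b⁻¹) * y⁻¹ := by group
    _ = x * y * x⁻¹ * y⁻¹ := by rw [(hb x⁻¹).eq, mul_inv_cancel_right]

/-- What commutes up to the centre with two elements commutes with their commutator. -/
theorem commute_commutator {u v y : G} (hu : ∀ z, Commute ⁅y, u⁆ z) (hv : ∀ z, Commute ⁅y, v⁆ z) :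
    Commute ⁅u, v⁆ y := by
  have eu : ∀ z, Commute (u⁻¹ * (y * u * y⁻¹)) z := fun z => by
    have e : y * u * y⁻¹ = u * ⁅y, u⁆ := by
      rw [← (hu u).eq, commutatorElement_def]; group
    rw [e, inv_mul_cancel_left]; exact hu z
  have ev : ∀ z, Commute (v⁻¹ * (y * v * y⁻¹)) z := fun z => by
    have e : y * v * y⁻¹ = v * ⁅y, v⁆ := by
      rw [← (hv v).eq, commutatorElement_def]; group
    rw [e, inv_mul_cancel_left]; exact hv z
  have h := comm_eq_of_central eu ev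
  rw [← conjugate_commutatorElement] at h
  exact (mul_inv_eq_iff_eq_mul.mp h).symm

/-- If `u` commutes with `y` and `r = [v, y]` with `v` and `y`, the commutator of `[u, v]` and `y` is `[u, r]`. -/
theorem comm_nested {u v y : G} (huy : Commute u y) (hrv : Commute ⁅v, y⁆ v) (hry : Commute ⁅v, y⁆ y)
    (hsu : Commute ⁅u, ⁅v, y⁆⁆ u) (hsv : Commute ⁅u, ⁅v, y⁆⁆ v) (hsr : Commute ⁅u, ⁅v, y⁆⁆ ⁅v, y⁆) :
    ⁅⁅u, v⁆, y⁆ = ⁅u, ⁅v, y⁆⁆ := by
  set r := ⁅v, y⁆ with hr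
  set s := ⁅u, r⁆ with hs
  have e1 : v * y * v⁻¹ = r * y := by rw [hr, commutatorElement_def]; group
  have e2 : v⁻¹ * y * v = r⁻¹ * y := by
    have h := congrArg (fun t => v⁻¹ * t * v) e1
    simp only [← mul_assoc, inv_mul_cancel, one_mul, inv_mul_cancel_right] at h
    have h3 : y = r * (v⁻¹ * y * v) := by
      calc y = v⁻¹ * r * y * v := h
        _ = (v⁻¹ * r * v) * (v⁻¹ * y * v) := by group
        _ = r * (v⁻¹ * y * v) := by rw [mul_assoc v⁻¹ r v, hrv.eq, inv_mul_cancel_left]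
    rw [eq_inv_mul_iff_mul_eq, ← h3]
  have e3 : u * r * u⁻¹ = s * r := by rw [hs, commutatorElement_def]; group
  have e4 : u⁻¹ * r⁻¹ * u = r⁻¹ * s := by
    have h3 : r⁻¹ = u * (r⁻¹ * s) * u⁻¹ := by
      calc r⁻¹ = (r⁻¹ * s⁻¹) * s := by group
        _ = (u * r * u⁻¹)⁻¹ * s := by rw [e3, mul_inv_rev]
        _ = u * r⁻¹ * (u⁻¹ * s) := by group
        _ = u * r⁻¹ * (s * u⁻¹) := by rw [(hsu.inv_right).eq]
        _ = u * (r⁻¹ * s) * u⁻¹ := by group
    calc u⁻¹ * r⁻¹ * u = u⁻¹ * (u * (r⁻¹ * s) * u⁻¹) * u := by rw [← h3]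
      _ = r⁻¹ * s := by group
  have e5 : u⁻¹ * y * u = y := by rw [mul_assoc, ← huy.eq, inv_mul_cancel_left]
  calc ⁅⁅u, v⁆, y⁆ = u * v * (u⁻¹ * (v⁻¹ * y * v) * u) * v⁻¹ * u⁻¹ * y⁻¹ := by
        simp only [commutatorElement_def]; group
    _ = u * v * ((u⁻¹ * r⁻¹ * u) * (u⁻¹ * y * u)) * v⁻¹ * u⁻¹ * y⁻¹ := by rw [e2]; group
    _ = u * ((v * r⁻¹ * v⁻¹) * (v * s * v⁻¹) * (v * y * v⁻¹)) * u⁻¹ * y⁻¹ := by rw [e4, e5]; group
    _ = u * (r⁻¹ * s * (r * y)) * u⁻¹ * y⁻¹ := by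
        rw [e1, ← hrv.inv_left.eq, mul_inv_cancel_right, ← hsv.eq, mul_inv_cancel_right]
    _ = u * (s * y) * u⁻¹ * y⁻¹ := by
        rw [show r⁻¹ * s * (r * y) = r⁻¹ * (s * r) * y by group, hsr.eq, inv_mul_cancel_left]
    _ = s * (u * y * u⁻¹) * y⁻¹ := by
        rw [show u * (s * y) = (u * s) * y by group, ← hsu.eq]; group
    _ = s := by rw [huy.eq, mul_inv_cancel_right, mul_inv_cancel_right]

/-- If `v` fixes `y` up to a central factor and `u` commutes with `r = [u⁻¹, y]`. -/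
theorem comm_nested_central {u v y : G} (hκ : ∀ z, Commute ⁅v, y⁆ z) (hur : Commute u ⁅u⁻¹, y⁆) :
    ⁅⁅u, v⁆, y⁆ = ⁅u, ⁅v, ⁅u⁻¹, y⁆⁆⁆ * ⁅v, ⁅u⁻¹, y⁆⁆ := by
  set κ := ⁅v, y⁆ with hk
  set r := ⁅u⁻¹, y⁆ with hr
  set e := ⁅v, r⁆ with he
  have e1 : v * y * v⁻¹ = κ * y := by rw [hk, commutatorElement_def]; group
  have e2 : v⁻¹ * y * v = κ⁻¹ * y := by
    rw [eq_inv_mul_iff_mul_eq, ← mul_assoc, ← mul_assoc, (hκ v⁻¹).eq, mul_assoc v⁻¹ κ y, ← e1]
    group
  have e3 : u⁻¹ * y * u = r * y := by rw [hr, commutatorElement_def]; group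
  have e4 : u * y * u⁻¹ = r⁻¹ * y := by
    have h := congrArg (fun t => u * t * u⁻¹) e3
    simp only [← mul_assoc, mul_inv_cancel, one_mul, mul_inv_cancel_right] at h
    rw [eq_inv_mul_iff_mul_eq]
    calc r * (u * y * u⁻¹) = (u * r) * y * u⁻¹ := by rw [hur.eq]; group
      _ = y := h.symm
  calc ⁅⁅u, v⁆, y⁆ = u * v * (u⁻¹ * (v⁻¹ * y * v) * u) * v⁻¹ * u⁻¹ * y⁻¹ := by
        simp only [commutatorElement_def]; group
    _ = u * v * (κ⁻¹ * (u⁻¹ * y * u)) * v⁻¹ * u⁻¹ * y⁻¹ := by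
        rw [e2, ← mul_assoc u⁻¹ κ⁻¹ y, ← ((hκ u⁻¹).inv_left).eq]; group
    _ = u * (κ⁻¹ * ((v * r * v⁻¹) * (v * y * v⁻¹))) * u⁻¹ * y⁻¹ := by
        rw [e3, show u * v * (κ⁻¹ * (r * y)) = u * (v * κ⁻¹) * r * y by group, ← ((hκ v).inv_left).eq]; group
    _ = u * (e * r * y) * u⁻¹ * y⁻¹ := by
        rw [e1, show v * r * v⁻¹ = e * r by rw [he, commutatorElement_def]; group,
          show e * r * (κ * y) = e * r * κ * y by group, ← (hκ (e * r)).eq]
        group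
    _ = (u * e * u⁻¹) * r * ((u * y * u⁻¹) * y⁻¹) := by
        rw [show u * (e * r * y) * u⁻¹ * y⁻¹ = (u * e * u⁻¹) * (u * r * u⁻¹) * ((u * y * u⁻¹) * y⁻¹) by group,
          hur.eq, mul_inv_cancel_right]
    _ = ⁅u, e⁆ * e := by rw [e4, commutatorElement_def]; group

end Comm

/-- A central extension of a group containing the short root elements. -/
structure Ext {F : Type u} [Field F] (D : Datum F) (Γ : Type w) [Group Γ] where
  σ : Γ →* ↥D.O
  central : σ.ker ≤ Subgroup.center Γ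
  z_mem : ∀ a w, D.z a w ∈ σ.range
  three_le : 3 ≤ D.m
  ω : D.K
  ω_ne : ω ≠ 0
  ω_star : star ω ≠ ω
  ω_sq : ω * ω ≠ 1
  ω_gen : ∀ u : D.K, u ≠ 0 → ∃ n : ℕ, u = ω ^ n
  w₁ : D.K
  bK_w₁ : D.bK w₁ 1 = 1

namespace Ext

open Datum

variable {F : Type u} [Field F] {D : Datum F} {Γ : Type w} [Group Γ] (L : Ext D Γ)

theorem central_of_eq {x x' : Γ} (h : L.σ x = L.σ x') : ∀ z, Commute (x⁻¹ * x') z := fun z =>
  (Subgroup.mem_center_iff.mp (L.central (show L.σ (x⁻¹ * x') = 1 by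
    rw [map_mul, map_inv, h, inv_mul_cancel])) z).symm

theorem comm_congr {x x' y y' : Γ} (hx : L.σ x = L.σ x') (hy : L.σ y = L.σ y') : ⁅x, y⁆ = ⁅x', y'⁆ :=
  (comm_eq_of_central (L.central_of_eq hx) (L.central_of_eq hy)).symm

theorem commute_congr {x x' y y' : Γ} (hx : L.σ x = L.σ x') (hy : L.σ y = L.σ y') (h : Commute x y) :
    Commute x' y' := by
  rw [← commutatorElement_eq_one_iff_commute] at h ⊢
  rwa [← L.comm_congr hx hy]

theorem central_comm {x y : Γ} (h : Commute (L.σ x) (L.σ y)) : ∀ z, Commute ⁅x, y⁆ z := fun z =>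
  (Subgroup.mem_center_iff.mp (L.central (show L.σ ⁅x, y⁆ = 1 by
    rw [map_commutatorElement, commutatorElement_eq_one_iff_commute.mpr h])) z).symm

theorem conj_comm {x x' y y' g : Γ} (hx : L.σ g * L.σ x * (L.σ g)⁻¹ = L.σ x')
    (hy : L.σ g * L.σ y * (L.σ g)⁻¹ = L.σ y') : g * ⁅x, y⁆ * g⁻¹ = ⁅x', y'⁆ := by
  rw [conjugate_commutatorElement]
  exact L.comm_congr (by rw [map_mul, map_mul, map_inv, hx]) (by rw [map_mul, map_mul, map_inv, hy])

theorem comm_mul_right {x y y' : Γ} (h : Commute ⁅x, y'⁆ y) : ⁅x, y * y'⁆ = ⁅x, y⁆ * ⁅x, y'⁆ := by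
  calc ⁅x, y * y'⁆ = x * y * x⁻¹ * (⁅x, y'⁆ * y⁻¹) := by simp only [commutatorElement_def]; group
    _ = ⁅x, y⁆ * ⁅x, y'⁆ := by rw [h.inv_right.eq]; simp only [commutatorElement_def]; group

theorem comm_mul_left {x x' y : Γ} (h : Commute ⁅x', y⁆ x) : ⁅x * x', y⁆ = ⁅x', y⁆ * ⁅x, y⁆ := by
  calc ⁅x * x', y⁆ = x * ⁅x', y⁆ * y * x⁻¹ * y⁻¹ := by simp only [commutatorElement_def]; group
    _ = ⁅x', y⁆ * ⁅x, y⁆ := by rw [← h.eq]; simp only [commutatorElement_def]; group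

/-- A lift of a short root element. -/
noncomputable def lz (a : SI D.m) (w : D.K) : Γ := (L.z_mem a w).choose

@[simp] theorem σ_lz (a : SI D.m) (w : D.K) : L.σ (L.lz a w) = D.z a w := (L.z_mem a w).choose_spec

theorem n_mem (a : SI D.m) (w : D.K) : D.n a w ∈ L.σ.range :=
  mul_mem (mul_mem (L.z_mem _ _) (L.z_mem _ _)) (L.z_mem _ _)

/-- A lift of the torus element. -/
noncomputable def lg (a : SI D.m) : Γ := (mul_mem (L.n_mem a L.ω) (L.n_mem a (-1))).choose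

@[simp] theorem σ_lg (a : SI D.m) : L.σ (L.lg a) = D.g a L.ω :=
  (mul_mem (L.n_mem a L.ω) (L.n_mem a (-1))).choose_spec

theorem bK_scale (s : F) : D.bK (s • L.w₁) 1 = s := by rw [D.bK_smul_left, L.bK_w₁, mul_one]

/-- The lift of a long root element. -/
noncomputable def X (a b : SI D.m) (s : F) : Γ := ⁅L.lz a (s • L.w₁), L.lz b 1⁆

theorem σ_X {a b : SI D.m} (h : ix a ≠ ix b) (s : F) : L.σ (L.X a b s) = D.x a b s := by
  rw [X, map_commutatorElement, σ_lz, σ_lz, D.comm_z_z (Ne.symm (ne_of_ix h).2.2), L.bK_scale]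

theorem rot_ne : L.ω / star L.ω ≠ 1 := fun h =>
  L.ω_star ((div_eq_one_iff_eq (star_ne_zero.mpr L.ω_ne)).mp h).symm

theorem scale_sub_ne : L.ω * L.ω - 1 ≠ 0 := sub_ne_zero.mpr L.ω_sq

theorem g_z (a : SI D.m) (w : D.K) :
    D.g a L.ω * D.z a w * (D.g a L.ω)⁻¹ = D.z a (L.ω * L.ω * w) := by
  rw [(D.mono_g a L.ω_ne).conj_z]
  show D.z a (D.gCoef a L.ω a • (L.ω / star L.ω * w)) = _
  rw [gCoef, if_pos rfl, Algebra.smul_def, QuadraticAlgebra.algebraMap_norm_eq_mul_star]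
  congr 1
  field_simp [star_ne_zero.mpr L.ω_ne]

/-- A short root element is a commutator with the torus element. -/
theorem z_eq_comm (a : SI D.m) (w : D.K) :
    D.z a w = ⁅D.g a L.ω, D.z a ((L.ω * L.ω - 1)⁻¹ * w)⁆ := by
  rw [commutatorElement_def, L.g_z, ← D.z_neg, D.z_add]
  congr 1
  linear_combination -(mul_inv_cancel_left₀ L.scale_sub_ne w)

/-- (i) A long root lift and a short root lift on a third index commute. -/
theorem commute_X_lz_apart {a b : SI D.m} (h : ix a ≠ ix b) {c : SI D.m} (h1 : ix a ≠ ix c)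
    (h2 : ix b ≠ ix c) (s : F) (w : D.K) : Commute (L.X a b s) (L.lz c w) := by
  have key : Commute ⁅L.lg c, L.lz c ((L.ω * L.ω - 1)⁻¹ * w)⁆ (L.X a b s) := by
    refine commute_commutator (fun z => L.central_comm ?_ z) (fun z => L.central_comm ?_ z)
    · rw [L.σ_X h, σ_lg]; exact (D.g_commute_x c L.ω h h1 h2 s).symm
    · rw [L.σ_X h, σ_lz]
      exact D.commute_x_z h s _ (fun e => h1 (by rw [e, ix_op])) (fun e => h2 (by rw [e, ix_op]))
  exact (L.commute_congr (by rw [map_commutatorElement, σ_lg, σ_lz, σ_lz, ← L.z_eq_comm]) rfl key).symm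

/-- (ii) A long root lift commutes with a short one on its own index. -/
theorem commute_X_lz_left {a b : SI D.m} (h : ix a ≠ ix b) (s : F) (w : D.K) :
    Commute (L.X a b s) (L.lz a w) := by
  obtain ⟨c, hca, hcb⟩ := exists_third L.three_le a b
  obtain ⟨n1, n2, n3⟩ := ne_of_ix (Ne.symm hca)
  have key : Commute ⁅L.X a c 1, L.X c.swap b (-s)⁆ (L.lz a w) := by
    refine commute_commutator (fun z => L.central_comm ?_ z) (fun z => L.central_comm ?_ z)
    · rw [L.σ_X (Ne.symm hca), σ_lz]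
      exact (D.commute_x_z (Ne.symm hca) 1 w (op_ne a).symm n2).symm
    · rw [L.σ_X (by rwa [ix_op]), σ_lz]
      exact (D.commute_x_z (by rwa [ix_op]) _ w (by rw [Sum.swap_swap]; exact n1) (ne_of_ix h).2.1).symm
  refine L.commute_congr ?_ rfl key
  rw [map_commutatorElement, L.σ_X (Ne.symm hca), L.σ_X (by rwa [ix_op]), L.σ_X h,
    D.comm_x_x (Ne.symm hca) h hcb, one_mul, neg_neg]

theorem commute_X_lz_right {a b : SI D.m} (h : ix a ≠ ix b) (s : F) (w : D.K) :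
    Commute (L.X a b s) (L.lz b w) :=
  L.commute_congr (by rw [L.σ_X (Ne.symm h), L.σ_X h, D.x_flip h, neg_neg]) rfl
    (L.commute_X_lz_left (Ne.symm h) (-s) w)

theorem commute_X_lz {a b : SI D.m} (h : ix a ≠ ix b) {c : SI D.m} (h1 : c ≠ a.swap) (h2 : c ≠ b.swap)
    (s : F) (w : D.K) : Commute (L.X a b s) (L.lz c w) := by
  by_cases ha : ix c = ix a
  · rcases eq_or_eq_op ha with e | e
    · subst e; exact L.commute_X_lz_left h s w
    · exact absurd e h1
  by_cases hb : ix c = ix b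
  · rcases eq_or_eq_op hb with e | e
    · subst e; exact L.commute_X_lz_right h s w
    · exact absurd e h2
  exact L.commute_X_lz_apart h (Ne.symm ha) (Ne.symm hb) s w

/-- Long root lifts commute when their images do, apart from the pairs `{a, b}`, `{a, b.swap}`. -/
theorem commute_X_X {a b c d : SI D.m} (h : ix a ≠ ix b) (hcd : ix c ≠ ix d) (h1 : c ≠ a.swap)
    (h2 : c ≠ b.swap) (h3 : d ≠ a.swap) (h4 : d ≠ b.swap) (s t : F) : Commute (L.X a b s) (L.X c d t) :=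
  (commute_commutator
    (fun z => L.central_comm (by rw [L.σ_X h, σ_lz]; exact D.commute_x_z h s _ h1 h2) z)
    (fun z => L.central_comm (by rw [L.σ_X h, σ_lz]; exact D.commute_x_z h s _ h3 h4) z)).symm

/-- The commutator of two short root lifts, through a third index. -/
theorem pair_step {a b c : SI D.m} (hac : ix a ≠ ix c) (hab : ix a ≠ ix b) (hcb : ix c ≠ ix b) (t : F)
    (w w' : D.K) :
    ⁅L.lz a (-(t • w)), L.lz b w'⁆ = ⁅L.X a c t, ⁅L.lz c.swap w, L.lz b w'⁆⁆ := by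
  obtain ⟨n1, n2, n3⟩ := ne_of_ix hac
  obtain ⟨m1, m2, m3⟩ := ne_of_ix hab
  obtain ⟨l1, l2, l3⟩ := ne_of_ix hcb
  have hc'b : ix c.swap ≠ ix b := by rwa [ix_op]
  have hac' : ix a ≠ ix c.swap := by rwa [ix_op]
  have er : L.σ ⁅L.lz c.swap w, L.lz b w'⁆ = L.σ (L.X c.swap b (D.bK w w')) := by
    rw [map_commutatorElement, σ_lz, σ_lz, L.σ_X hc'b,
      D.comm_z_z (by rw [Sum.swap_swap]; exact Ne.symm l1)]
  have es : L.σ ⁅L.X a c t, ⁅L.lz c.swap w, L.lz b w'⁆⁆ = L.σ (L.X a b (-(t * D.bK w w'))) := by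
    rw [map_commutatorElement, er, L.σ_X hac, L.σ_X hc'b, L.σ_X hab, D.comm_x_x hac hab hcb]
  have hfix : ∀ {y : Γ} {k : F}, Commute (L.X a b k) y → k = -(t * D.bK w w') →
      Commute ⁅L.X a c t, ⁅L.lz c.swap w, L.lz b w'⁆⁆ y := fun {y k} hy hk =>
    L.commute_congr (by rw [es, hk]) rfl hy
  have h := comm_nested (u := L.X a c t) (v := L.lz c.swap w) (y := L.lz b w')
    (L.commute_X_lz hac (Ne.symm m3) (Ne.symm l3) t w')
    (L.commute_congr er.symm rfl (L.commute_X_lz_left hc'b _ w))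
    (L.commute_congr er.symm rfl (L.commute_X_lz_right hc'b _ w'))
    (hfix (L.commute_X_X hab hac (op_ne a).symm m2 (Ne.symm n3) l2 _ t) rfl)
    (hfix (L.commute_X_lz hab (fun e => n1 (op_inj e).symm) (fun e => l1 (op_inj e)) _ w) rfl)
    (L.commute_congr es.symm er.symm
      (L.commute_X_X hab hc'b (fun e => n1 (op_inj e).symm) (fun e => l1 (op_inj e))
        (Ne.symm m3) (op_ne b).symm _ _))
  rw [← h]
  have hk : L.σ ⁅L.X a c t, L.lz c.swap w⁆ =
      L.σ (L.lz a (-(t • w)) * L.X a c.swap (t * QuadraticAlgebra.norm w)) := by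
    rw [map_commutatorElement, map_mul, L.σ_X hac, σ_lz, σ_lz, L.σ_X hac', D.comm_x_z hac]
  rw [L.comm_congr hk rfl]
  have hx : ⁅L.X a c.swap (t * QuadraticAlgebra.norm w), L.lz b w'⁆ = 1 :=
    commutatorElement_eq_one_iff_commute.mpr
      (L.commute_X_lz hac' (Ne.symm m3) (by rw [Sum.swap_swap]; exact Ne.symm l1) _ w')
  rw [comm_mul_left (by rw [hx]; exact Commute.one_left _), hx, one_mul]

/-- The commutator of two short root lifts is the long root lift. -/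
theorem pair_eq {a b : SI D.m} (hab : ix a ≠ ix b) (w w' : D.K) :
    ⁅L.lz a w, L.lz b w'⁆ = L.X a b (D.bK w w') := by
  obtain ⟨c, hca, hcb⟩ := exists_third L.three_le a b
  have hc'b : ix c.swap ≠ ix b := by rwa [ix_op]
  have key : ∀ v v' : D.K, ⁅L.lz a v, L.lz b v'⁆ = ⁅L.X a c 1, L.X c.swap b (-D.bK v v')⁆ := by
    intro v v'
    conv_lhs => rw [show v = -((1 : F) • -v) by rw [one_smul, neg_neg]]
    rw [L.pair_step (Ne.symm hca) hab hcb]
    refine L.comm_congr rfl ?_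
    rw [map_commutatorElement, σ_lz, σ_lz, L.σ_X hc'b,
      D.comm_z_z (by rw [Sum.swap_swap]; exact Ne.symm (ne_of_ix hcb).1),
      show -v = (-1 : F) • v by simp, D.bK_smul_left, neg_one_mul]
  show _ = ⁅L.lz a (D.bK w w' • L.w₁), L.lz b 1⁆
  rw [key, key, L.bK_scale]

/-- The sum rule. -/
theorem comm_X_X {a b c : SI D.m} (hac : ix a ≠ ix c) (hab : ix a ≠ ix b) (hcb : ix c ≠ ix b) (t u : F) :
    ⁅L.X a c t, L.X c.swap b u⁆ = L.X a b (-(t * u)) := by
  have hc'b : ix c.swap ≠ ix b := by rwa [ix_op]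
  have h := L.pair_step hac hab hcb t (u • L.w₁) 1
  rw [L.pair_eq hab, L.pair_eq hc'b, L.bK_scale, show -(t • u • L.w₁) = (-(t * u)) • L.w₁ by module,
    L.bK_scale] at h
  exact h.symm

theorem X_flip {a b : SI D.m} (h : ix a ≠ ix b) (s : F) : L.X b a s = L.X a b (-s) := by
  have e : L.X a b (-s) = ⁅L.lz a 1, L.lz b ((-s) • L.w₁)⁆ := by
    rw [L.pair_eq h, D.bK_comm, L.bK_scale]
  rw [e, ← commutatorElement_inv, L.pair_eq (Ne.symm h), L.bK_scale]
  refine eq_inv_of_mul_eq_one_left ?_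
  rw [X, X, ← comm_mul_left]
  · rw [L.comm_congr (x' := L.lz b 0) (y' := L.lz a 1)
      (by rw [map_mul, σ_lz, σ_lz, σ_lz, D.z_add, ← add_smul, neg_add_cancel, zero_smul]) rfl,
      L.comm_congr (x' := 1) (y' := L.lz a 1) (by rw [σ_lz, D.z_zero, map_one]) rfl, commutatorElement_one_left]
  · exact L.commute_X_lz_left (Ne.symm h) _ _

theorem X_add {a b : SI D.m} (h : ix a ≠ ix b) (s t : F) : L.X a b s * L.X a b t = L.X a b (s + t) := by
  have hcm : Commute (L.X a b s) (L.lz a (t • L.w₁)) := L.commute_X_lz_left h s _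
  rw [X, X, ← comm_mul_left hcm]
  exact L.comm_congr (by rw [map_mul, σ_lz, σ_lz, σ_lz, D.z_add, ← add_smul, add_comm]) rfl

theorem X_zero {a b : SI D.m} (h : ix a ≠ ix b) : L.X a b 0 = 1 :=
  mul_eq_left.mp (show L.X a b 0 * L.X a b 0 = L.X a b 0 by rw [L.X_add h, add_zero])

theorem X_inv {a b : SI D.m} (h : ix a ≠ ix b) (s : F) : (L.X a b s)⁻¹ = L.X a b (-s) := by
  rw [inv_eq_iff_mul_eq_one, L.X_add h, add_neg_cancel, L.X_zero h]

/-- Equivariance under every element with monomial image. -/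
theorem conj_X {γ : Γ} {π : SI D.m → SI D.m} {k : SI D.m → F} {c : D.K} {ε : Bool}
    (M : D.Mono (L.σ γ) π k c ε) {a b : SI D.m} (h : ix a ≠ ix b) (s : F) :
    γ * L.X a b s * γ⁻¹ = L.X (π a) (π b) (k a * k b * s) := by
  rw [X, L.conj_comm (x' := L.lz (π a) (k a • (c * D.cj ε (s • L.w₁))))
    (y' := L.lz (π b) (k b • (c * D.cj ε 1))) (by rw [σ_lz, σ_lz, M.conj_z]) (by rw [σ_lz, σ_lz, M.conj_z]),
    L.pair_eq (M.ix_ne h), D.bK_smul_left, D.bK_smul_right, M.bK_map, L.bK_scale, mul_assoc]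

/-- The pairs `{a, b}`, `{a, b.swap}`. -/
theorem commute_X_vPair {a b : SI D.m} (hab : ix a ≠ ix b) (s t : F) :
    Commute (L.X a b s) (L.X a b.swap t) := by
  by_cases hs : s = 0
  · subst hs; rw [L.X_zero hab]; exact Commute.one_left _
  obtain ⟨c, hca, hcb⟩ := exists_third L.three_le a b
  obtain ⟨n1, n2, n3⟩ := ne_of_ix (Ne.symm hca)
  obtain ⟨m1, m2, m3⟩ := ne_of_ix hab
  obtain ⟨l1, l2, l3⟩ := ne_of_ix hcb
  have hb'c : ix b.swap ≠ ix c := by rwa [ix_op, ne_comm]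
  have hac : ix a ≠ ix c := Ne.symm hca
  have hab' : ix a ≠ ix b.swap := by rwa [ix_op]
  have hac' : ix a ≠ ix c.swap := by rwa [ix_op]
  have hc'b' : ix c.swap ≠ ix b.swap := by rwa [ix_op, ix_op]
  set t' := t / s
  have hK : ⁅L.X a b s, L.X b.swap c 1⁆ = L.X a c (-s) := by
    rw [L.comm_X_X hab hac (Ne.symm hcb), mul_one]
  have hr : L.σ ⁅(L.X a b s)⁻¹, L.X c.swap b.swap t'⁆ = L.σ (L.X a c.swap (-(s * t'))) := by
    rw [L.X_inv hab, map_commutatorElement, L.σ_X hab, L.σ_X hc'b', L.σ_X hac', D.x_flip (Ne.symm hc'b'),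
      D.comm_x_x hab hac' (by rwa [ix_op, ne_comm]), neg_mul_neg]
  have hE : ⁅L.X b.swap c 1, ⁅(L.X a b s)⁻¹, L.X c.swap b.swap t'⁆⁆ = L.X a b.swap t := by
    rw [L.comm_congr (x' := L.X b.swap c 1) rfl hr, L.X_flip (Ne.symm hac') (-(s * t')), neg_neg,
      L.comm_X_X hb'c (Ne.symm hab') hca, L.X_flip hab']
    congr 1
    simp only [t']
    field_simp
  have h := comm_nested_central (u := L.X a b s) (v := L.X b.swap c 1) (y := L.X c.swap b.swap t')
    (fun z => L.central_comm (by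
      rw [L.σ_X hb'c, L.σ_X hc'b', D.x_flip (Ne.symm hc'b')]
      exact D.commute_x_vPair hb'c 1 _) z)
    (L.commute_congr rfl hr.symm (L.commute_X_X hab hac' (op_ne a).symm m2
      (fun e => n1 (op_inj e).symm) (fun e => l1 (op_inj e)) s _))
  rw [hE, hK, show L.X c.swap b.swap t' = L.X c.swap b.swap t' from rfl,
    L.comm_X_X hac hab' (by rwa [ix_op]), show -(-s * t') = t by simp only [t']; field_simp,
    right_eq_mul] at h
  exact commutatorElement_eq_one_iff_commute.mp h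

/-- Short root lifts on one index commute. -/
theorem commute_lz_lz (a : SI D.m) (w u : D.K) : Commute (L.lz a w) (L.lz a u) := by
  obtain ⟨c, hca, -⟩ := exists_third L.three_le a a
  have hac : ix a ≠ ix c := Ne.symm hca
  obtain ⟨n1, n2, n3⟩ := ne_of_ix hac
  have hac' : ix a ≠ ix c.swap := by rwa [ix_op]
  have hc'a : ix c.swap ≠ ix a := Ne.symm hac'
  set t := L.X a c 1
  set v := L.lz c.swap (-w)
  have er : ⁅v, L.lz a u⁆ = L.X c.swap a (D.bK (-w) u) := L.pair_eq hc'a _ _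
  have hs : ⁅t, ⁅v, L.lz a u⁆⁆ = 1 := by
    rw [er, L.X_flip hac', commutatorElement_eq_one_iff_commute]
    exact L.commute_X_vPair hac 1 _
  have h := comm_nested (u := t) (v := v) (y := L.lz a u) (L.commute_X_lz_left hac 1 u)
    (er ▸ L.commute_X_lz_left hc'a _ _) (er ▸ L.commute_X_lz_right hc'a _ _)
    (hs ▸ Commute.one_left _) (hs ▸ Commute.one_left _) (hs ▸ Commute.one_left _)
  rw [hs] at h
  have hk : L.σ ⁅t, v⁆ = L.σ (L.lz a w * L.X a c.swap (1 * QuadraticAlgebra.norm (-w))) := by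
    rw [map_commutatorElement, map_mul, L.σ_X hac, σ_lz, σ_lz, L.σ_X hac', D.comm_x_z hac, one_smul, neg_neg]
  have hx : ⁅L.X a c.swap (1 * QuadraticAlgebra.norm (-w)), L.lz a u⁆ = 1 :=
    commutatorElement_eq_one_iff_commute.mpr (L.commute_X_lz_left hac' _ u)
  rw [L.comm_congr hk rfl, comm_mul_left (by rw [hx]; exact Commute.one_left _), hx, one_mul] at h
  exact commutatorElement_eq_one_iff_commute.mp h

/-- The lift of a short root element. -/
noncomputable def Z (a : SI D.m) (w : D.K) : Γ := ⁅L.lg a, L.lz a ((L.ω * L.ω - 1)⁻¹ * w)⁆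

@[simp] theorem σ_Z (a : SI D.m) (w : D.K) : L.σ (L.Z a w) = D.z a w := by
  rw [Z, map_commutatorElement, σ_lg, σ_lz, ← L.z_eq_comm]

theorem Z_add (a : SI D.m) (w w' : D.K) : L.Z a w * L.Z a w' = L.Z a (w + w') := by
  have hcm : Commute ⁅L.lg a, L.lz a ((L.ω * L.ω - 1)⁻¹ * w')⁆ (L.lz a ((L.ω * L.ω - 1)⁻¹ * w)) :=
    L.commute_congr (x := L.lz a w') (by rw [σ_lz]; exact (L.σ_Z a w').symm) rfl (L.commute_lz_lz a _ _)
  rw [Z, Z, ← comm_mul_right hcm]
  exact L.comm_congr rfl (by rw [map_mul, σ_lz, σ_lz, σ_lz, D.z_add, mul_add])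

theorem Z_zero (a : SI D.m) : L.Z a 0 = 1 :=
  mul_eq_left.mp (show L.Z a 0 * L.Z a 0 = L.Z a 0 by rw [L.Z_add, add_zero])

theorem Z_inv (a : SI D.m) (w : D.K) : (L.Z a w)⁻¹ = L.Z a (-w) := by
  rw [inv_eq_iff_mul_eq_one, L.Z_add, add_neg_cancel, L.Z_zero]

theorem Z_self_scale (a : SI D.m) (w : D.K) :
    L.lg a * L.Z a w * (L.lg a)⁻¹ = L.Z a (L.ω * L.ω * w) := by
  rw [Z, Z]
  refine L.conj_comm (by rw [σ_lg, mul_inv_cancel_right]) ?_
  rw [σ_lg, σ_lz, σ_lz, L.g_z]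
  congr 1
  ring

theorem commute_Z_Z (a : SI D.m) (w u : D.K) : Commute (L.Z a w) (L.Z a u) :=
  L.commute_congr (x := L.lz a w) (y := L.lz a u) (by simp) (by simp) (L.commute_lz_lz a w u)

theorem commute_X_Z {a b : SI D.m} (h : ix a ≠ ix b) {c : SI D.m} (h1 : c ≠ a.swap) (h2 : c ≠ b.swap)
    (s : F) (w : D.K) : Commute (L.X a b s) (L.Z c w) :=
  L.commute_congr (y := L.lz c w) rfl (by simp) (L.commute_X_lz h h1 h2 s w)

theorem comm_Z_Z {a b : SI D.m} (hab : ix a ≠ ix b) (w w' : D.K) :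
    ⁅L.Z a w, L.Z b w'⁆ = L.X a b (D.bK w w') := by
  rw [← L.pair_eq hab]
  exact L.comm_congr (by simp) (by simp)

/-- Two additive lifts with the same equivariance under a bijective twist agree. -/
theorem eq_Z_of_twist {a : SI D.m} (f : D.K → Γ) (θ ψ : D.K → D.K) (hθ : ∀ u v, θ (u + v) = θ u + θ v)
    (hf : ∀ u v, f u * f v = f (u + v)) (hσ : ∀ u, L.σ (f u) = D.z a (θ u))
    (hψ : ∀ v, ∃ u, ψ u - u = v) (γ : Γ) (h1 : ∀ u, γ * f u * γ⁻¹ = f (ψ u))
    (h2 : ∀ u, γ * L.Z a (θ u) * γ⁻¹ = L.Z a (θ (ψ u))) (u : D.K) : f u = L.Z a (θ u) := by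
  let E : D.K → Γ := fun v => f v * (L.Z a (θ v))⁻¹
  have hz : ∀ v, L.σ (E v) = 1 := fun v => by simp [E, hσ]
  have hcz : ∀ v z, Commute (E v) z := fun v z =>
    (Subgroup.mem_center_iff.mp (L.central (hz v)) z).symm
  have hfE : ∀ v, f v = E v * L.Z a (θ v) := fun v => (inv_mul_cancel_right _ _).symm
  have hEmul : ∀ v v', E (v + v') = E v * E v' := by
    intro v v'
    have h : E (v + v') * L.Z a (θ (v + v')) = E v * L.Z a (θ v) * (E v' * L.Z a (θ v')) := by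
      rw [← hfE, ← hfE, ← hfE, hf]
    rw [show E v * L.Z a (θ v) * (E v' * L.Z a (θ v')) = E v * (L.Z a (θ v) * E v') * L.Z a (θ v') by group,
      ← (hcz v' _).eq, hθ, ← L.Z_add, show E v * (E v' * L.Z a (θ v)) * L.Z a (θ v') =
      E v * E v' * (L.Z a (θ v) * L.Z a (θ v')) by group] at h
    exact mul_right_cancel h
  have hEψ : ∀ v, E (ψ v) = E v := by
    intro v
    calc E (ψ v) = γ * f v * γ⁻¹ * (γ * L.Z a (θ v) * γ⁻¹)⁻¹ := by rw [h1, h2]
      _ = γ * E v * γ⁻¹ := by simp only [E]; group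
      _ = E v := by rw [← (hcz v γ).eq, mul_inv_cancel_right]
  obtain ⟨v, rfl⟩ := hψ u
  have e : E (ψ v) = E (ψ v - v) * E v := by rw [← hEmul, sub_add_cancel]
  rw [hEψ v, right_eq_mul] at e
  rw [hfE, e, one_mul]

theorem torus_comm {γ γ' : ↥D.O} {k k' : SI D.m → F} {c c' : D.K} (M : D.Mono γ id k c false)
    (M' : D.Mono γ' id k' c' false) : Commute γ γ' := by
  refine D.ext_app (fun a => ?_) (fun u => ?_)
  · rw [app_mul, app_mul, M'.he, M.he, app_smul, app_smul, id, M.he, M'.he, smul_smul, smul_smul, mul_comm]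
  · rw [app_mul, app_mul, M'.hj, M.hj, M.hj, M'.hj]
    congr 1
    show c * (c' * u) = c' * (c * u)
    ring

/-- Equivariance of the short root lifts. -/
theorem conj_Z {γ : Γ} {π : SI D.m → SI D.m} {k : SI D.m → F} {c : D.K} {ε : Bool}
    (M : D.Mono (L.σ γ) π k c ε) (a : SI D.m) (w : D.K) :
    γ * L.Z a w * γ⁻¹ = L.Z (π a) (k a • (c * D.cj ε w)) := by
  set h := γ * L.lg a * γ⁻¹ with hh
  -- the conjugated torus element is again diagonal
  have Mg := D.mono_g a L.ω_ne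
  have hMh : D.Mono (L.σ h) id
      (fun x => if hx : ∃ y, π y = x then D.gCoef a L.ω hx.choose else 1) (D.cj ε (L.ω / star L.ω)) false := by
    constructor
    · intro x
      obtain ⟨y, rfl⟩ := (Finite.injective_iff_surjective.mp M.pi_inj) x
      have e : app (L.σ γ)⁻¹ (D.e (π y)) = (k y)⁻¹ • D.e y := by
        refine app_injective (L.σ γ) ?_
        rw [app_app_inv, app_smul, M.he, smul_smul, inv_mul_cancel₀ (M.k_ne y), one_smul]
      rw [dif_pos ⟨y, rfl⟩, M.pi_inj (Exists.choose_spec (⟨y, rfl⟩ : ∃ z, π z = π y))]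
      rw [hh, map_mul, map_mul, map_inv, σ_lg, app_mul, app_mul, e, app_smul, Mg.he, app_smul, app_smul, id,
        M.he, smul_smul, smul_smul, id]
      congr 1
      field_simp [M.k_ne y]
    · intro v
      obtain ⟨u, rfl⟩ : ∃ u, v = c * D.cj ε u := by
        refine ⟨D.cj ε (v / c), ?_⟩
        have hc := M.c_ne
        cases ε <;> simp [Datum.cj] <;> field_simp
      rw [← M.hj, hh, map_mul, map_mul, map_inv, σ_lg, app_mul, app_mul, app_inv_app, Mg.hj, M.hj]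
      congr 1
      rw [show D.cj false u = u from rfl, Mono.cj_mul]
      show c * (D.cj ε (L.ω / star L.ω) * D.cj ε u) = D.cj ε (L.ω / star L.ω) * (c * D.cj ε u)
      ring
  have hcomm : Commute (L.σ h) (D.g (π a) L.ω) := torus_comm hMh (D.mono_g (π a) L.ω_ne)
  refine L.eq_Z_of_twist (fun u => γ * L.Z a u * γ⁻¹) (fun u => k a • (c * D.cj ε u))
    (fun u => L.ω * L.ω * u) (fun u v => ?_) (fun u v => ?_) (fun u => ?_) (fun v => ?_) h (fun u => ?_)
    (fun u => ?_) w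
  · cases ε <;> simp [Datum.cj, mul_add, smul_add]
  · show γ * L.Z a u * γ⁻¹ * (γ * L.Z a v * γ⁻¹) = γ * L.Z a (u + v) * γ⁻¹
    rw [← L.Z_add]; group
  · rw [map_mul, map_mul, map_inv, σ_Z, M.conj_z]
  · exact ⟨(L.ω * L.ω - 1)⁻¹ * v, by linear_combination mul_inv_cancel_left₀ L.scale_sub_ne v⟩
  · show h * (γ * L.Z a u * γ⁻¹) * h⁻¹ = γ * L.Z a (L.ω * L.ω * u) * γ⁻¹
    rw [← L.Z_self_scale, hh]; group
  · rw [Z, Z]
    refine L.conj_comm (by rw [σ_lg, hcomm.eq, mul_inv_cancel_right]) ?_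
    rw [σ_lz, σ_lz, hMh.conj_z]
    have e : D.z (π a) (k a • (c * D.cj ε (L.ω * L.ω * u))) =
        L.σ h * D.z (π a) (k a • (c * D.cj ε u)) * (L.σ h)⁻¹ := by
      rw [hh, ← M.conj_z, ← M.conj_z, ← L.g_z, map_mul, map_mul, map_inv, σ_lg]; group
    rw [hMh.conj_z] at e
    have e' := D.z_inj e
    congr 1
    simp only [Datum.cj, cond_false, id_eq, Algebra.smul_def] at e' ⊢
    linear_combination -(L.ω * L.ω - 1)⁻¹ * e'

/-- The long-short rule. -/
theorem comm_X_Z {a c : SI D.m} (hac : ix a ≠ ix c) (t : F) (w : D.K) :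
    ⁅L.X a c t, L.Z c.swap w⁆ = L.Z a (-(t • w)) * L.X a c.swap (t * QuadraticAlgebra.norm w) := by
  obtain ⟨n1, n2, n3⟩ := ne_of_ix hac
  have hac' : ix a ≠ ix c.swap := by rwa [ix_op]
  obtain ⟨b, hba, hbc⟩ := exists_third L.three_le a c
  let f : D.K → Γ := fun u => ⁅L.X a c t, L.Z c.swap u⁆ * (L.X a c.swap (t * QuadraticAlgebra.norm u))⁻¹
  have hfσ : ∀ u, L.σ (f u) = D.z a (-(t • u)) := fun u => by
    simp only [f]
    rw [map_mul, map_inv, map_commutatorElement, L.σ_X hac, σ_Z, L.σ_X hac', D.comm_x_z hac,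
      mul_inv_cancel_right]
  have hfX : ∀ u v, Commute (f u) (L.X a c.swap v) := fun u v =>
    (L.commute_congr (y := L.lz a (-(t • u))) rfl (by rw [σ_lz, hfσ]) (L.commute_X_lz_left hac' v _)).symm
  have hK : ∀ u, ⁅L.X a c t, L.Z c.swap u⁆ = f u * L.X a c.swap (t * QuadraticAlgebra.norm u) := fun u =>
    (inv_mul_cancel_right _ _).symm
  have hfadd : ∀ u v, f u * f v = f (u + v) := by
    intro u v
    have hbf : ⁅L.Z c.swap u, f v⁆ = L.X c.swap a (D.bK u (-(t • v))) := by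
      rw [L.comm_congr (x' := L.lz c.swap u) (y' := L.lz a (-(t • v))) (by simp) (by rw [hfσ, σ_lz]),
        L.pair_eq (Ne.symm hac')]
    have hconj : L.Z c.swap u * f v * (L.Z c.swap u)⁻¹ = L.X a c.swap (t * D.bK u v) * f v := by
      have e : L.Z c.swap u * f v * (L.Z c.swap u)⁻¹ = ⁅L.Z c.swap u, f v⁆ * f v := by
        rw [commutatorElement_def]; group
      rw [e, hbf, L.X_flip hac', show -(t • v) = (-t) • v by rw [neg_smul], D.bK_smul_right, neg_mul, neg_neg]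
    have hexp : ⁅L.X a c t, L.Z c.swap (u + v)⁆ = ⁅L.X a c t, L.Z c.swap u⁆ *
        (L.Z c.swap u * ⁅L.X a c t, L.Z c.swap v⁆ * (L.Z c.swap u)⁻¹) := by
      rw [← L.Z_add]; simp only [commutatorElement_def]; group
    have hxz := (L.commute_X_Z hac' (c := c.swap) (fun e => n1 (op_inj e).symm) (op_ne _).symm
      (t * QuadraticAlgebra.norm v) u).eq
    have hn : t * QuadraticAlgebra.norm (u + v) =
        t * QuadraticAlgebra.norm u + (t * D.bK u v + t * QuadraticAlgebra.norm v) := by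
      rw [← D.Q_j, ← D.Q_j, ← D.Q_j, map_add, QuadraticMap.map_add (⇑D.Q), D.polar_j_j]; ring
    show f u * f v = ⁅L.X a c t, L.Z c.swap (u + v)⁆ * (L.X a c.swap (t * QuadraticAlgebra.norm (u + v)))⁻¹
    rw [eq_mul_inv_iff_mul_eq, hexp, hK, hK,
      show L.Z c.swap u * (f v * L.X a c.swap (t * QuadraticAlgebra.norm v)) * (L.Z c.swap u)⁻¹ =
        (L.Z c.swap u * f v * (L.Z c.swap u)⁻¹) *
          (L.Z c.swap u * L.X a c.swap (t * QuadraticAlgebra.norm v) * (L.Z c.swap u)⁻¹) by group,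
      ← hxz, mul_inv_cancel_right, hconj, hn, ← L.X_add hac', ← L.X_add hac',
      ← mul_assoc (f u * f v), mul_assoc (f u) (f v), (hfX v _).eq]
    simp only [← mul_assoc]
    rw [mul_assoc (_ * _) (f v), (hfX v _).eq]
    simp only [← mul_assoc]
  have key := L.eq_Z_of_twist f (fun u => -(t • u)) (fun u => L.ω / star L.ω * u)
    (fun u v => by simp only [smul_add, neg_add]) hfadd hfσ
    (fun v => ⟨(L.ω / star L.ω - 1)⁻¹ * v, by
      have := sub_ne_zero.mpr L.rot_ne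
      generalize L.ω / star L.ω = r at *
      field_simp
      ⟩)
    (L.lg b) (fun u => ?_) (fun u => ?_) w
  · rw [← key]; exact hK w
  · have Mb : D.Mono (L.σ (L.lg b)) id (D.gCoef b L.ω) (L.ω / star L.ω) false :=
      (L.σ_lg b).symm ▸ D.mono_g b L.ω_ne
    have hk : ∀ x, ix x ≠ ix b → D.gCoef b L.ω x = 1 := fun x hx => by
      obtain ⟨q1, q2, -⟩ := ne_of_ix hx
      rw [Datum.gCoef, if_neg q1, if_neg q2]
    have hnorm : QuadraticAlgebra.norm (L.ω / star L.ω * u) = QuadraticAlgebra.norm u := by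
      have h1 : QuadraticAlgebra.norm (L.ω / star L.ω) = 1 := by
        have h2 := map_mul QuadraticAlgebra.norm (L.ω / star L.ω) (star L.ω)
        rw [div_mul_cancel₀ _ (star_ne_zero.mpr L.ω_ne), QuadraticAlgebra.norm_star, eq_comm,
          mul_eq_right₀ (D.norm_ne L.ω_ne)] at h2
        exact h2
      rw [map_mul, h1, one_mul]
    simp only [f]
    rw [show ∀ p q : Γ, L.lg b * (p * q⁻¹) * (L.lg b)⁻¹ =
        (L.lg b * p * (L.lg b)⁻¹) * (L.lg b * q * (L.lg b)⁻¹)⁻¹ from fun p q => by group,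
      conjugate_commutatorElement, L.conj_X Mb hac, L.conj_X Mb hac', L.conj_Z Mb,
      hk a (Ne.symm hba), hk c (Ne.symm hbc), hk c.swap (by rw [ix_op]; exact Ne.symm hbc), one_smul, hnorm]
    simp [Datum.cj]
  · have Mb : D.Mono (L.σ (L.lg b)) id (D.gCoef b L.ω) (L.ω / star L.ω) false :=
      (L.σ_lg b).symm ▸ D.mono_g b L.ω_ne
    obtain ⟨q1, q2, -⟩ := ne_of_ix (Ne.symm hba)
    rw [L.conj_Z Mb, Datum.gCoef, if_neg q1, if_neg q2]
    simp [Datum.cj]

end Ext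

end Cfsg.Agent.Lib.Schur.MinusRoot
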