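import Cfsg.Agent.Lib.Schur.MinusRoot.Bruhat
import Cfsg.Agent.Lib.Schur.OrthSpin
import Cfsg.Agent.Lib.Schur.Perfect
import Cfsg.Agent.Lib.POmegaAut.Count

/-!
The Schur multiplier of `PΩ⁻_{2l}(q)`: the preimage of the centre in the universal cover of `Ω⁻_{2l}(q)`.
-/

set_option autoImplicit false
set_option linter.unusedSectionVars false

namespace Cfsg.Agent.Lib.Schur.MinusRoot

open QuadraticMap Cfsg.Agent.Lib.Orth Cfsg.Agent.Lib.Classical
open scoped commutatorElement

universe u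

section Generic

variable {ι : Type} [Fintype ι] [DecidableEq ι] {F : Type u} [Field F] {Q : (ι → F) → F}

/-- The preimage of the centre in a perfect cover with trivial multiplier is the multiplier. -/
theorem hasMult_of_pre {Γ : Type u} [Group Γ] [Finite Γ] (hperf : Group.IsPerfect Γ)
    (htriv : Cfsg.HasCyclicSchurMultiplier Γ 1) (π : Γ →* ↥(Cfsg.Omega F Q)) (hsurj : Function.Surjective π)
    (hcen : π.ker ≤ Subgroup.center Γ) {A : Type} [CommGroup A] [Finite A]
    (e : ↥((Subgroup.center ↥(Cfsg.Omega F Q)).comap π) ≃* A) :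
    Cfsg.HasSchurMultiplier (Cfsg.POmega F Q) A := by
  let σP : Γ →* Cfsg.POmega F Q := (QuotientGroup.mk' _).comp π
  have hker : σP.ker = (Subgroup.center ↥(Cfsg.Omega F Q)).comap π := by
    ext x; simp [σP, QuotientGroup.eq_one_iff]
  have hs : Function.Surjective σP := (QuotientGroup.mk'_surjective _).comp hsurj
  have hc : σP.ker ≤ Subgroup.center Γ := by
    intro x hx
    rw [hker] at hx
    refine mem_center_of_perfect hperf fun y => hcen ?_
    rw [MonoidHom.mem_ker, map_commutatorElement, commutatorElement_eq_one_iff_mul_comm]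
    exact (Subgroup.mem_center_iff.1 hx (π y)).symm
  have hstem : Cfsg.IsStemExtension σP := ⟨hs, hc, by rw [hperf.commutator_eq_top]; exact le_top⟩
  have hin : σP.ker ⊓ commutator Γ = (Subgroup.center ↥(Cfsg.Omega F Q)).comap π := by
    rw [hperf.commutator_eq_top, inf_top_eq, hker]
  haveI : Finite (Cfsg.POmega F Q) := Finite.of_surjective σP hs
  let e' := (MulEquiv.subgroupCongr hin).trans e
  refine hasSchurMultiplier_of_bound σP hs hc e'.toMonoidHom e'.surjective fun Y _ τ hτ hτc => ?_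
  obtain ⟨g, hg⟩ := exists_surjection_of_trivial_middle hstem htriv τ hτ hτc
  refine (Nat.card_le_card_of_surjective g hg).trans (le_of_eq ?_)
  rw [hker]
  exact Nat.card_congr e.toEquiv

/-- The order of the preimage of the centre. -/
theorem card_pre_eq {Γ : Type u} [Group Γ] (π : Γ →* ↥(Cfsg.Omega F Q)) (hsurj : Function.Surjective π) :
    Nat.card ↥((Subgroup.center ↥(Cfsg.Omega F Q)).comap π) =
      Nat.card π.ker * Nat.card (Subgroup.center ↥(Cfsg.Omega F Q)) := by
  set Cn := Subgroup.center ↥(Cfsg.Omega F Q)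
  let f : ↥(Cn.comap π) →* ↥Cn := (π.comp (Cn.comap π).subtype).codRestrict _ fun x => x.2
  have hf : Function.Surjective f := fun y => by
    obtain ⟨x, hx⟩ := hsurj y.1
    exact ⟨⟨x, show π x ∈ Cn by rw [hx]; exact y.2⟩, Subtype.ext hx⟩
  rw [← Subgroup.card_mul_index f.ker, Subgroup.index_ker, MonoidHom.range_eq_top.2 hf, Subgroup.card_top]
  congr 1
  exact Nat.card_congr
    { toFun := fun x => ⟨x.1.1, congrArg Subtype.val (MonoidHom.mem_ker.1 x.2)⟩
      invFun := fun x => ⟨⟨x.1, show π x.1 ∈ Cn by rw [MonoidHom.mem_ker.1 x.2]; exact one_mem _⟩,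
        Subtype.ext (MonoidHom.mem_ker.1 x.2)⟩
      left_inv := fun _ => rfl
      right_inv := fun _ => rfl }

end Generic

variable {F : Type u} [Field F] {D : Datum F}

namespace Datum

/-- Constants of the extension. -/
theorem exists_consts [Finite F] : ∃ ω w₁ : D.K, ω ≠ 0 ∧ star ω ≠ ω ∧ ω * ω ≠ 1 ∧
    (∀ u : D.K, u ≠ 0 → ∃ n : ℕ, u = ω ^ n) ∧ D.bK w₁ 1 = 1 := by
  obtain ⟨γ, hγ⟩ : IsCyclic D.Kˣ := inferInstance
  have hgen : ∀ u : D.K, u ≠ 0 → ∃ n : ℕ, u = (γ : D.K) ^ n := fun u hu => by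
    obtain ⟨n, hn⟩ := mem_powers_iff_mem_zpowers.mpr (hγ (Units.mk0 u hu))
    exact ⟨n, by rw [← Units.val_pow_eq_pow_val]; exact (congrArg Units.val hn).symm⟩
  have hy : ∀ r : F, (⟨r, 1⟩ : D.K) ≠ 0 := fun r h =>
    one_ne_zero (α := F) (by simpa using congrArg QuadraticAlgebra.im h)
  -- no element is fixed by the conjugation unless all are
  have hnfix : star (γ : D.K) ≠ γ := by
    intro h
    obtain ⟨n, hn⟩ := hgen _ (hy 0)
    have hy1 : star (⟨0, 1⟩ : D.K) = ⟨0, 1⟩ := by rw [hn, star_pow, h]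
    have h1 := congrArg QuadraticAlgebra.re hy1
    have h2 := congrArg QuadraticAlgebra.im hy1
    simp only [QuadraticAlgebra.re_star, QuadraticAlgebra.im_star, zero_add, mul_one] at h1 h2
    have h20 : (2 : F) = 0 := by linear_combination -h2
    haveI : CharP F 2 := CharTwo.of_one_ne_zero_of_two_eq_zero one_ne_zero h20
    obtain ⟨r, hr⟩ := FiniteField.isSquare_of_char_two (ringChar.eq F 2) (-D.b)
    exact D.aniso r (by rw [h1, zero_mul, add_zero, pow_two, ← hr])
  have hsq : (γ : D.K) * γ ≠ 1 := by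
    intro h
    have hpow : ∀ n : ℕ, (γ : D.K) ^ n = 1 ∨ (γ : D.K) ^ n = γ := by
      intro n
      induction n with
      | zero => left; rw [pow_zero]
      | succ n ih =>
        rw [pow_succ]
        rcases ih with e | e <;> rw [e]
        · right; rw [one_mul]
        · left; exact h
    have hall : ∀ u : D.K, u ≠ 0 → u = 1 ∨ u = γ := fun u hu => by
      obtain ⟨n, hn⟩ := hgen u hu; rw [hn]; exact hpow n
    have a0 : ∀ r : F, (⟨r, 1⟩ : D.K) = γ := fun r => (hall _ (hy r)).resolve_left fun e =>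
      one_ne_zero (α := F) (by simpa [QuadraticAlgebra.im_one] using congrArg QuadraticAlgebra.im e)
    exact zero_ne_one (α := F) (by simpa using congrArg QuadraticAlgebra.re ((a0 0).trans (a0 1).symm))
  obtain ⟨w₁, hw⟩ : ∃ w₁ : D.K, D.bK w₁ 1 = 1 := by
    by_cases ha : D.a = 0
    · have h2 : (2 : F) ≠ 0 := fun h20 => by
        haveI : CharP F 2 := CharTwo.of_one_ne_zero_of_two_eq_zero one_ne_zero h20
        obtain ⟨r, hr⟩ := FiniteField.isSquare_of_char_two (ringChar.eq F 2) (-D.b)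
        exact D.aniso r (by rw [ha, zero_mul, add_zero, pow_two, ← hr])
      refine ⟨⟨2⁻¹, 0⟩, ?_⟩
      rw [bK, star_one, mul_one, QuadraticAlgebra.trace_def]
      simp [h2]
    · refine ⟨⟨0, D.a⁻¹⟩, ?_⟩
      rw [bK, star_one, mul_one, QuadraticAlgebra.trace_def]
      simp [ha]
  exact ⟨γ, w₁, γ.ne_zero, hnfix, hsq, hgen, hw⟩

/-- A short root element is a commutator with a torus element. -/
theorem z_comm {ω : D.K} (hω : ω ≠ 0) (h : ω * ω ≠ 1) (a : SI D.m) (w : D.K) :
    D.z a w = ⁅D.g a ω, D.z a ((ω * ω - 1)⁻¹ * w)⁆ := by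
  have e : ∀ v, D.g a ω * D.z a v * (D.g a ω)⁻¹ = D.z a (ω * ω * v) := fun v => by
    rw [(D.mono_g a hω).conj_z]
    show D.z a (D.gCoef a ω a • (ω / star ω * v)) = _
    rw [gCoef, if_pos rfl, Algebra.smul_def, QuadraticAlgebra.algebraMap_norm_eq_mul_star]
    congr 1
    field_simp [star_ne_zero.mpr hω]
  rw [commutatorElement_def, e, ← D.z_neg, D.z_add]
  congr 1
  linear_combination -(mul_inv_cancel_left₀ (sub_ne_zero.mpr h) w)

variable (D)

/-- The subgroup generated by the short root elements. -/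
noncomputable def zGroup : Subgroup ↥D.O := Subgroup.closure {g | ∃ a w, g = D.z a w}

theorem z_mem_zGroup (a : SI D.m) (w : D.K) : D.z a w ∈ D.zGroup := Subgroup.subset_closure ⟨a, w, rfl⟩

theorem g_mem_zGroup (a : SI D.m) (w : D.K) : D.g a w ∈ D.zGroup :=
  mul_mem (mul_mem (mul_mem (D.z_mem_zGroup _ _) (D.z_mem_zGroup _ _)) (D.z_mem_zGroup _ _))
    (mul_mem (mul_mem (D.z_mem_zGroup _ _) (D.z_mem_zGroup _ _)) (D.z_mem_zGroup _ _))

theorem x_mem_zGroup [Finite F] {a b : SI D.m} (h : ix a ≠ ix b) (s : F) : D.x a b s ∈ D.zGroup := by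
  obtain ⟨-, w₁, -, -, -, -, hw⟩ := D.exists_consts
  have e := D.comm_z_z (a := a) (c := b) (Ne.symm (ne_of_ix h).2.2) (s • w₁) 1
  rw [D.bK_smul_left, hw, mul_one] at e
  rw [← e, commutatorElement_def]
  exact mul_mem (mul_mem (mul_mem (D.z_mem_zGroup _ _) (D.z_mem_zGroup _ _)) (inv_mem (D.z_mem_zGroup _ _)))
    (inv_mem (D.z_mem_zGroup _ _))

theorem E_mem_zGroup [Finite F] (a : SI D.m) {v : D.V} (h1 : v (Sum.inl a) = 0)
    (h2 : v (Sum.inl a.swap) = 0) : D.E (D.e a) v ∈ D.zGroup := by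
  have hterm : ∀ c : SI D.m, QuadraticMap.polar ⇑D.Q (D.e a) (v (Sum.inl c) • D.e c) = 0 ∧
      D.E (D.e a) (v (Sum.inl c) • D.e c) ∈ D.zGroup := by
    intro c
    by_cases hc : ix c = ix a
    · have : v (Sum.inl c) = 0 := by rcases eq_or_eq_op hc with e | e <;> rw [e] <;> assumption
      rw [this, zero_smul, D.E_zero]
      exact ⟨polar_zero_right _ _, one_mem _⟩
    · exact ⟨D.polar_x (Ne.symm hc) _, D.x_mem_zGroup (Ne.symm hc) _⟩
  have hsum : ∀ S : Finset (SI D.m), QuadraticMap.polar ⇑D.Q (D.e a) (∑ c ∈ S, v (Sum.inl c) • D.e c) = 0 ∧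
      D.E (D.e a) (∑ c ∈ S, v (Sum.inl c) • D.e c) ∈ D.zGroup := by
    intro S
    induction S using Finset.induction with
    | empty => rw [Finset.sum_empty, D.E_zero]; exact ⟨polar_zero_right _ _, one_mem _⟩
    | @insert c S hc ih =>
      rw [Finset.sum_insert hc]
      refine ⟨by rw [polar_add_right, (hterm c).1, ih.1, add_zero], ?_⟩
      rw [← D.E_add (D.Q_e a) (hterm c).1 ih.1]
      exact mul_mem (hterm c).2 ih.2
  rw [D.decomp v, ← D.E_add (D.Q_e a) (hsum _).1 (D.polar_e_j a _)]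
  exact mul_mem (hsum _).2 (D.z_mem_zGroup _ _)

end Datum

/-- The derived group of the isometry group lies in the group of short root elements. -/
theorem omega_le_zGroup [Finite F] (hm : 3 ≤ D.m) : Cfsg.Omega F ⇑D.Q ≤ D.zGroup := by
  haveI := Fintype.ofFinite F
  obtain ⟨m, a, b, han⟩ := D
  obtain ⟨k, rfl⟩ : ∃ k, m = k + 3 := ⟨m - 3, by simp at hm; omega⟩
  set D : Datum F := ⟨k + 3, a, b, han⟩
  have hab : BinAniso a b := by
    intro z₁ z₂ h
    have hz2 : z₂ = 0 := by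
      by_contra h2
      refine han (-(z₁ / z₂)) ?_
      field_simp
      linear_combination h
    exact ⟨by simpa [hz2] using h, hz2⟩
  let M : TwoPlaneModel D.Q (hypTower (k + 1) (binQ a b)) := minusModel k a b
  have h := isotropicNondeg_hypTower (nondeg_binQ hab) k
  have hgen : eichlerGroup (hypExt (hypTower (k + 1) (binQ a b))) ≤
      D.zGroup.map ((isoGroup _).subtype.comp M.isoEquiv.toMonoidHom) := by
    refine (Subgroup.closure_le _).mpr ?_
    have key : ∀ (u v : D.V) (hu : D.Q u = 0) (huv : QuadraticMap.polar ⇑D.Q u v = 0),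
        D.E u v ∈ D.zGroup → ∀ (g : (F × F × F × F × (Fin (k + 1) → F) × (Fin (k + 1) → F) × F × F) ≃ₗ[F] _),
        (∀ y, g (M.toEquiv y) = M.toEquiv (y + QuadraticMap.polar ⇑D.Q u y • v -
          (QuadraticMap.polar ⇑D.Q v y + D.Q v * QuadraticMap.polar ⇑D.Q u y) • u)) →
        g ∈ D.zGroup.map ((isoGroup _).subtype.comp M.isoEquiv.toMonoidHom) := by
      intro u v hu huv hmem g hg
      refine ⟨D.E u v, hmem, LinearEquiv.ext fun p => ?_⟩
      obtain ⟨y, rfl⟩ := M.toEquiv.surjective p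
      rw [hg]
      exact (M.isoEquiv_apply _ y).trans (congrArg M.toEquiv (D.app_E hu huv y))
    have hp : ∀ u v : D.V, QuadraticMap.polar ⇑D.Q u v =
        QuadraticMap.polar ⇑(hypExt (hypExt (hypTower (k + 1) (binQ a b)))) (M.toEquiv u) (M.toEquiv v) :=
      fun u v => (polar_comp_equiv M.toEquiv M.compat u v).symm
    let a₀ : SI D.m := Sum.inl (0 : Fin (k + 3))
    have hMy : ∀ y : D.V, M.toEquiv y = (y (.inl (.inl 0)), y (.inl (.inr 0)), y (.inl (.inl (0 : Fin (k + 2)).succ)),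
        y (.inl (.inr (0 : Fin (k + 2)).succ)), (fun i : Fin (k + 1) => y (.inl (.inl i.succ.succ))),
        (fun i : Fin (k + 1) => y (.inl (.inr i.succ.succ))), y (.inr 0), y (.inr 1)) := fun _ => rfl
    have hM0 : M.toEquiv (D.e a₀) = (1, 0, 0) := by
      rw [hMy]
      simp [Datum.e, a₀, Prod.ext_iff, funext_iff, Fin.succ_ne_zero]
    have hM1 : M.toEquiv (D.e a₀.swap) = (0, 1, 0) := by
      rw [hMy]
      simp [Datum.e, a₀, Prod.ext_iff, funext_iff, Fin.succ_ne_zero]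
    rintro g (⟨w, rfl⟩ | ⟨w, rfl⟩)
    · obtain ⟨v, hv⟩ := M.toEquiv.surjective (0, 0, w)
      have v1 : v (Sum.inl a₀) = 0 := congrArg Prod.fst hv
      have v2 : v (Sum.inl a₀.swap) = 0 := congrArg (fun p => p.2.1) hv
      have huv : QuadraticMap.polar ⇑D.Q (D.e a₀) v = 0 := by rw [D.polar_e_left, v2]
      refine key _ v (D.Q_e a₀) huv (D.E_mem_zGroup a₀ v1 v2) _ fun y => ?_
      rw [map_sub, map_add, map_smul, map_smul, hp (D.e a₀) y, hp v y, ← M.compat v, hM0, hv,
        hypSiegel_apply]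
      obtain ⟨p1, p2, p3⟩ := M.toEquiv y
      refine Prod.ext ?_ (Prod.ext ?_ ?_) <;> simp [polar_hypExt, hypExt_apply] <;> try ring
    · obtain ⟨v, hv⟩ := M.toEquiv.surjective (0, 0, w)
      have v1 : v (Sum.inl a₀) = 0 := congrArg Prod.fst hv
      have v2 : v (Sum.inl a₀.swap) = 0 := congrArg (fun p => p.2.1) hv
      have huv : QuadraticMap.polar ⇑D.Q (D.e a₀.swap) v = 0 := by rw [D.polar_e_left, Sum.swap_swap, v1]
      refine key _ v (D.Q_e a₀.swap) huv (D.E_mem_zGroup a₀.swap v2 (by rw [Sum.swap_swap]; exact v1)) _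
        fun y => ?_
      rw [map_sub, map_add, map_smul, map_smul, hp (D.e a₀.swap) y, hp v y, ← M.compat v, hM1, hv,
        hypSiegel'_apply]
      obtain ⟨p1, p2, p3⟩ := M.toEquiv y
      refine Prod.ext ?_ (Prod.ext ?_ ?_) <;> simp [polar_hypExt, hypExt_apply] <;> try ring
  intro g hg
  have hgE : ((M.isoEquiv g : _) : (F × F × F × F × _) ≃ₗ[F] _) ∈ eichlerGroup (hypExt (hypTower (k + 1) (binQ a b))) := by
    have h1 : M.isoEquiv g ∈ commutator (isoGroup (F := F) ⇑(hypExt (hypExt (hypTower (k + 1) (binQ a b))))) := by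
      have h2 := Subgroup.mem_map_of_mem M.isoEquiv.toMonoidHom hg
      rwa [Cfsg.Omega, commutator_def, Subgroup.map_commutator, ← MonoidHom.range_eq_map,
        MonoidHom.range_eq_top.2 M.isoEquiv.surjective, ← commutator_def] at h2
    rw [commutator_isoGroup_eq h] at h1
    exact h1
  obtain ⟨y, hy, e⟩ := hgen hgE
  rwa [← M.isoEquiv.injective (Subtype.ext e)]

namespace Datum

variable (D)

theorem z_mem_omega [Finite F] (a : SI D.m) (w : D.K) : D.z a w ∈ Cfsg.Omega F ⇑D.Q := by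
  obtain ⟨ω, -, hω, -, hω2, -⟩ := D.exists_consts
  rw [z_comm hω hω2 a w]
  exact Subgroup.commutator_mem_commutator (Subgroup.mem_top _) (Subgroup.mem_top _)

theorem zGroup_eq [Finite F] (hm : 3 ≤ D.m) : D.zGroup = Cfsg.Omega F ⇑D.Q :=
  le_antisymm ((Subgroup.closure_le _).mpr fun g ⟨a, w, e⟩ => e ▸ D.z_mem_omega a w) (omega_le_zGroup hm)

theorem perfect_omega [Finite F] (hm : 3 ≤ D.m) : Group.IsPerfect ↥(Cfsg.Omega F ⇑D.Q) := by
  obtain ⟨ω, -, hω, -, hω2, -⟩ := D.exists_consts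
  rw [Subgroup.isPerfect_iff]
  refine le_antisymm (Subgroup.commutator_le_self _) (fun g hg => ?_)
  rw [← D.zGroup_eq hm] at hg ⊢
  refine (Subgroup.closure_le _).mpr ?_ hg
  rintro _ ⟨a, w, rfl⟩
  rw [z_comm hω hω2 a w]
  exact Subgroup.commutator_mem_commutator (D.g_mem_zGroup a ω) (D.z_mem_zGroup a _)

end Datum

/-- A universal cover with its canonical lifts. -/
theorem exists_univ [Finite F] (hm : 3 ≤ D.m) :
    ∃ (Γ : Type u) (_ : Group Γ) (_ : Finite Γ) (π : Γ →* ↥(Cfsg.Omega F ⇑D.Q)) (L : Ext D Γ),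
      L.σ = (Cfsg.Omega F ⇑D.Q).subtype.comp π ∧ Function.Surjective π ∧ π.ker ≤ Subgroup.center Γ ∧
      Group.IsPerfect Γ ∧ Cfsg.HasCyclicSchurMultiplier Γ 1 := by
  obtain ⟨Γ, _, _, π, hperf, hsurj, hc, huniv⟩ :=
    exists_universal_central_extension.{u, u} (D.perfect_omega hm)
  obtain ⟨ω, w₁, hω, hωs, hω2, hgen, hw⟩ := D.exists_consts
  let σ : Γ →* ↥D.O := (Cfsg.Omega F ⇑D.Q).subtype.comp π
  have hk : σ.ker ≤ Subgroup.center Γ := fun x hx => hc (by
    rw [MonoidHom.mem_ker] at hx ⊢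
    exact Subtype.ext hx)
  have hz : ∀ a w, D.z a w ∈ σ.range := fun a w => by
    obtain ⟨x, hx⟩ := hsurj ⟨_, D.z_mem_omega a w⟩
    exact ⟨x, congrArg Subtype.val hx⟩
  exact ⟨Γ, inferInstance, inferInstance, π, ⟨σ, hk, hz, hm, ω, hω, hωs, hω2, hgen, w₁, hw⟩, rfl, hsurj, hc,
    hperf, trivial_of_universal hperf π hsurj hc fun X _ ξ hξ hξc => (huniv X ξ hξ hξc).exists⟩

namespace Ext

open Datum

variable {Γ : Type u} [Group Γ] (L : Ext D Γ) [Finite F]

theorem GJ_zero_eq_top (hperf : Group.IsPerfect Γ) (hσ : ∀ x, L.σ x ∈ Cfsg.Omega F ⇑D.Q) :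
    L.GJ 0 = ⊤ := by
  have hz : D.zGroup ≤ (L.GJ 0).map L.σ := (Subgroup.closure_le _).mpr fun g ⟨a, w, e⟩ =>
    ⟨L.Z a w, L.Z_mem_GJ (Nat.zero_le _) w, by rw [σ_Z, e]⟩
  have hsur : ∀ x : Γ, ∃ g ∈ L.GJ 0, L.σ g = L.σ x := fun x => by
    obtain ⟨g, hg, e⟩ := hz (omega_le_zGroup L.three_le (hσ x))
    exact ⟨g, hg, e⟩
  rw [eq_top_iff, ← hperf.commutator_eq_top, commutator_def, Subgroup.commutator_le]
  intro x _ y _
  obtain ⟨g, hg, eg⟩ := hsur x
  obtain ⟨h, hh, eh⟩ := hsur y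
  rw [← L.comm_congr eg eh, commutatorElement_def]
  exact mul_mem (mul_mem (mul_mem hg hh) (inv_mem hg)) (inv_mem hh)

theorem σ_δ : L.σ L.δ = 1 := by
  have hb : ix L.j₀ ≠ ix L.p₀ := L.ix_j₀_ne
  have hb' : ix L.j₀ ≠ ix L.p₀.swap := by rwa [ix_op]
  have h1 : (-1 : F) ≠ 0 := neg_ne_zero.mpr one_ne_zero
  have M := (L.mono_H hb h1).mul (L.mono_H hb' h1)
  refine D.ext_app (fun a => ?_) (fun u => ?_)
  · rw [δ, S, map_mul, M.he, app_one]
    have hc : hCoef L.j₀ L.p₀.swap (-1 : F) a * hCoef L.j₀ L.p₀ (-1) a = 1 := by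
      simp only [hCoef]
      obtain ⟨q1, q2, q3⟩ := ne_of_ix hb
      split_ifs <;> simp_all [inv_neg]
    show (hCoef L.j₀ L.p₀.swap (-1 : F) a * hCoef L.j₀ L.p₀ (-1) (id a)) • D.e (id (id a)) = _
    rw [id, hc, one_smul]; rfl
  · rw [δ, S, map_mul, M.hj, app_one]
    simp [Datum.cj]

theorem δ_char_two (h2 : (2 : F) = 0) : L.δ = 1 := by
  have h : (-1 : F) = 1 := by linear_combination -h2
  rw [δ, S, h, L.H_one L.ix_j₀_ne, L.H_one (by rw [ix_op]; exact L.ix_j₀_ne), mul_one]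

theorem commute_T {x y : Γ} (hx : x ∈ L.T) (hy : y ∈ L.DH) : Commute x y := by
  obtain ⟨k, c, M⟩ := L.mono_T hx
  exact L.commute_DH M hy

theorem S_mul {a b : SI D.m} (h : ix a ≠ ix b) {s t : F} (hs : s ≠ 0) (ht : t ≠ 0) :
    L.S a b s * L.S a b t = L.S a b (s * t) := by
  have h' : ix a ≠ ix b.swap := by rwa [ix_op]
  rw [S, S, S, show L.H a b s * L.H a b.swap s * (L.H a b t * L.H a b.swap t) =
    L.H a b s * (L.H a b.swap s * L.H a b t) * L.H a b.swap t by group,
    (L.commute_DH (L.mono_H h' hs) (L.H_mem_DH h ht)).eq, ← L.H_mul h hs ht, ← L.H_mul h' hs ht]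
  group

/-- An involution of the torus that is `-1` on the first hyperbolic planes. -/
theorem exists_pairs : ∀ n : ℕ, 2 * n ≤ D.m → ∃ E ∈ L.DH, E * E = 1 ∧
    ∀ c : SI D.m, app (L.σ E) (D.e c) = (if (ix c).val < 2 * n then (-1 : F) else 1) • D.e c := by
  intro n
  induction n with
  | zero => exact fun _ => ⟨1, one_mem _, one_mul 1, fun c => by simp⟩
  | succ n ih =>
    intro hn
    obtain ⟨E, hE, hEE, hEc⟩ := ih (by omega)
    set a : SI D.m := Sum.inl ⟨2 * n, by omega⟩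
    set b : SI D.m := Sum.inl ⟨2 * n + 1, by omega⟩
    have hab : ix a ≠ ix b := by simp [a, b, ix, Fin.ext_iff]
    have h1 : (-1 : F) ≠ 0 := neg_ne_zero.mpr one_ne_zero
    have hH := L.H_mem_DH hab h1
    refine ⟨E * L.H a b (-1), mul_mem hE hH, ?_, fun c => ?_⟩
    · rw [(L.commute_DH (L.mono_H hab h1) hE).mul_mul_mul_comm, hEE, L.H_mul hab h1 h1, neg_one_mul,
        neg_neg, L.H_one hab, mul_one]
    · rw [map_mul, app_mul, (L.mono_H hab h1).he, app_smul, id, hEc, smul_smul]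
      congr 1
      by_cases hc : ix c = ix a ∨ ix c = ix b
      · have e1 : hCoef a b (-1 : F) c = -1 := by
          simp only [hCoef]
          rcases hc with hc | hc <;> rcases eq_or_eq_op hc with e | e <;> rw [e] <;> simp [inv_neg]
        have hv : (ix c).val = 2 * n ∨ (ix c).val = 2 * n + 1 :=
          hc.imp (congrArg Fin.val) (congrArg Fin.val)
        rw [e1, if_neg (by omega), if_pos (by omega), mul_one]
      · push Not at hc
        have hv1 : (ix c).val ≠ 2 * n := fun e => hc.1 (Fin.ext e)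
        have hv2 : (ix c).val ≠ 2 * n + 1 := fun e => hc.2 (Fin.ext e)
        rw [hCoef_third hc.1 hc.2, one_mul]
        by_cases h : (ix c).val < 2 * n
        · rw [if_pos h, if_pos (by omega)]
        · rw [if_neg h, if_neg (by omega)]

/-- A lift of `-1` squaring to the kernel element, `q ≡ 3` modulo 4 and `m` even. -/
theorem exists_negOne_lift (h2 : (2 : F) ≠ 0) (hns : ¬ IsSquare (-1 : F)) (hm : Even D.m) :
    ∃ g : Γ, g * g = L.δ ∧ ∀ v, app (L.σ g) v = -v := by
  -- a pure element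
  obtain ⟨v, hv0, hvs⟩ : ∃ v : D.K, v ≠ 0 ∧ star v = -v := by
    refine ⟨L.ω - star L.ω, sub_ne_zero.mpr (Ne.symm L.ω_star), ?_⟩
    rw [star_sub, star_star, neg_sub]
  have hvv : v * v = algebraMap F D.K (-QuadraticAlgebra.norm v) := by
    rw [map_neg, QuadraticAlgebra.algebraMap_norm_eq_mul_star, hvs, mul_neg, neg_neg]
  have hnsq : ¬ IsSquare (-QuadraticAlgebra.norm v) := by
    rintro ⟨r, hr⟩
    have hstar : star (algebraMap F D.K r) = algebraMap F D.K r := by
      refine QuadraticAlgebra.ext ?_ ?_ <;> simp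
    have h : v * v = algebraMap F D.K r * algebraMap F D.K r := by rw [hvv, hr, map_mul]
    rcases mul_self_eq_mul_self_iff.mp h with e | e
    · refine hv0 ?_
      have e' := hvs
      rw [e, hstar, eq_neg_iff_add_eq_zero, ← two_mul] at e'
      rw [e]
      refine (mul_eq_zero.mp e').resolve_left fun h' => h2 ?_
      simpa [QuadraticAlgebra.re_ofNat] using congrArg QuadraticAlgebra.re h'
    · refine hv0 ?_
      have e' := hvs
      rw [e, star_neg, hstar, neg_neg, eq_comm, eq_neg_iff_add_eq_zero, ← two_mul] at e'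
      rw [e, neg_eq_zero]
      refine (mul_eq_zero.mp e').resolve_left fun h' => h2 ?_
      simpa [QuadraticAlgebra.re_ofNat] using congrArg QuadraticAlgebra.re h'
  have hN : QuadraticAlgebra.norm v ≠ 0 := D.norm_ne hv0
  obtain ⟨k, hk⟩ : IsSquare (QuadraticAlgebra.norm v) := by
    haveI := Fintype.ofFinite F
    have hchar : ringChar F ≠ 2 := fun e => h2 (by
      haveI : CharP F 2 := e ▸ ringChar.charP F
      exact CharTwo.two_eq_zero)
    have := (Cfsg.Agent.Lib.SquareClass.mul_isSquare_iff hchar (neg_ne_zero.mpr one_ne_zero) hN)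
    simp only [neg_one_mul] at this
    tauto
  have hk0 : k ≠ 0 := fun e => hN (by rw [hk, e, zero_mul])
  have hki : k⁻¹ ≠ 0 := inv_ne_zero hk0
  obtain ⟨i, hi⟩ := L.ω_gen v hv0
  have hpj : ix L.p₀ ≠ ix L.j₀ := Ne.symm L.ix_j₀_ne
  obtain ⟨n, hn⟩ := hm
  obtain ⟨E, hE, hEE, hEc⟩ := L.exists_pairs n (by omega)
  set g := L.G L.p₀ ^ i with hg
  set s := L.S L.p₀ L.j₀ k⁻¹ with hs
  have hgn : L.N L.p₀ v = g * L.N L.p₀ 1 := by rw [hi, L.N_pow]
  have hgT : g ∈ L.T := pow_mem (L.G_mem _) i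
  have hsD : s ∈ L.DH := L.S_mem_DH hpj hki
  have hgg : g * g = L.S L.p₀ L.j₀ (-QuadraticAlgebra.norm v) := by
    have e := L.N_pow L.p₀ (i + i)
    rw [pow_add, pow_add, ← hi, hvv, Algebra.algebraMap_eq_smul_one,
      L.N_smul hpj (neg_ne_zero.mpr hN) one_ne_zero] at e
    exact (mul_right_cancel e).symm
  refine ⟨E * g * s, ?_, fun y => ?_⟩
  · have c1 : Commute g E := L.commute_T hgT hE
    have c2 : Commute g s := L.commute_T hgT hsD
    have c3 : Commute E s := L.commute_T (L.DH_le_T hE) hsD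
    rw [(c3.mul_left c2).symm.mul_mul_mul_comm, c1.mul_mul_mul_comm, hEE, one_mul, hgg, hs,
      L.S_mul hpj hki hki, L.S_mul hpj (neg_ne_zero.mpr hN) (mul_ne_zero hki hki),
      show -QuadraticAlgebra.norm v * (k⁻¹ * k⁻¹) = -1 by rw [hk]; field_simp, δ, S, S,
      L.H_flip L.ix_j₀_ne (neg_ne_zero.mpr one_ne_zero)]
    congr 1
    rw [← L.H_flip (show ix L.p₀ ≠ ix L.j₀.swap by rwa [ix_op]) (neg_ne_zero.mpr one_ne_zero),
      show L.H L.j₀.swap L.p₀ (-1) = L.H L.j₀.swap L.p₀.swap.swap (-1) by rw [Sum.swap_swap],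
      L.H_op (show ix L.j₀ ≠ ix L.p₀.swap by rw [ix_op]; exact L.ix_j₀_ne) (neg_ne_zero.mpr one_ne_zero),
      inv_neg, inv_one]
  · have Mn : ∀ {w : D.K}, w ≠ 0 → D.Mono (L.σ (L.N L.p₀ w)) (D.flipAt L.p₀) (D.nCoef L.p₀ w) (-(w / star w)) true :=
      fun hw => L.mono_N L.p₀ hw
    have eg : g = L.N L.p₀ v * L.N L.p₀ (-1) := by rw [hgn, ← L.N_inv, mul_inv_cancel_right]
    have Mg : D.Mono (L.σ g) id (D.gCoef L.p₀ v) (v / star v) false := by
      rw [eg, map_mul, σ_N, σ_N]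
      exact D.mono_g L.p₀ hv0
    have Ms := (L.mono_H hpj hki).mul (L.mono_H (show ix L.p₀ ≠ ix L.j₀.swap by rwa [ix_op]) hki)
    rw [← map_mul, show L.H L.p₀ L.j₀ k⁻¹ * L.H L.p₀ L.j₀.swap k⁻¹ = s from rfl] at Ms
    have key : ∀ c, app (L.σ (E * g * s)) (D.e c) = -D.e c := by
      intro c
      rw [map_mul, map_mul, app_mul, app_mul, Ms.he, app_smul, app_smul, Mg.he, app_smul]
      simp only [Function.comp_apply, id_eq]
      rw [hEc, smul_smul, smul_smul, ← neg_one_smul F (D.e c)]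
      congr 1
      rw [if_pos (by have := (ix c).isLt; omega)]
      have hkk : QuadraticAlgebra.norm v * (k⁻¹ * k⁻¹) = 1 := by rw [hk]; field_simp
      have hkk' : (QuadraticAlgebra.norm v)⁻¹ * (k * k) = 1 := by rw [hk]; field_simp
      by_cases hc : ix c = ix L.p₀
      · rcases eq_or_eq_op hc with e | e <;> subst e
        · simp only [hCoef, Datum.gCoef, if_pos, true_or]
          linear_combination -hkk
        · obtain ⟨q1, q2, q3⟩ := ne_of_ix hpj
          simp [hCoef, Datum.gCoef, op_ne L.p₀, q3, show L.p₀.swap ≠ L.j₀.swap from fun e => q1 (op_inj e)]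
          first
            | linear_combination -hkk'
            | linear_combination hkk'
      · obtain ⟨p1, p2, -⟩ := ne_of_ix hc
        rw [Datum.gCoef, if_neg p1, if_neg p2]
        by_cases hcj : ix c = ix L.j₀
        · rcases eq_or_eq_op hcj with e | e <;> subst e <;>
            simp [hCoef, p1, p2, op_ne L.j₀, (op_ne L.j₀).symm] <;> field_simp
        · rw [hCoef_third hc hcj, hCoef_third hc (by rwa [ix_op])]
          ring
    rw [D.decomp y, app_add, neg_add]
    congr 1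
    · have : ∀ S : Finset (SI D.m), app (L.σ (E * g * s)) (∑ c ∈ S, y (Sum.inl c) • D.e c) =
          -(∑ c ∈ S, y (Sum.inl c) • D.e c) := by
        intro S
        induction S using Finset.induction with
        | empty => simp [app_zero]
        | @insert c S hc ih => rw [Finset.sum_insert hc, app_add, app_smul, key, ih, smul_neg, neg_add]
      exact this _
    · obtain ⟨kE, ME⟩ := L.mono_DH hE
      rw [map_mul, map_mul, app_mul, app_mul, Ms.hj, Mg.hj, ME.hj, ← map_neg]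
      congr 1
      simp only [Datum.cj, cond_false, one_mul, Bool.bne_false]
      rw [hvs, div_neg, div_self hv0, neg_one_mul]

end Ext

end Cfsg.Agent.Lib.Schur.MinusRoot
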