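import Cfsg.Agent.Lib.Orth.Basic
import Cfsg.Agent.Lib.Classical.EichlerStandard
import Mathlib.Algebra.QuadraticAlgebra.Basic

/-!
The minus-type space `H^m ⊥ K`, `K` the quadratic extension with its norm: Eichler elements for long roots
`x a b t` and short roots `z a w`, their commutators, and monomial isometries.
-/

set_option autoImplicit false
set_option linter.unusedSectionVars false

namespace Cfsg.Agent.Lib.Schur.MinusRoot

open QuadraticMap Cfsg.Agent.Lib.Orth Cfsg.Agent.Lib.Classical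
open scoped commutatorElement

universe u

/-- Signed indices. -/
abbrev SI (m : ℕ) : Type := Fin m ⊕ Fin m

/-- The underlying index. -/
def ix {m : ℕ} : SI m → Fin m := Sum.elim id id

/-- The opposite index. -/
abbrev op {m : ℕ} (a : SI m) : SI m := a.swap

@[simp] theorem ix_op {m : ℕ} (a : SI m) : ix a.swap = ix a := by cases a <;> rfl

theorem op_ne {m : ℕ} (a : SI m) : a.swap ≠ a := by cases a <;> simp

theorem ne_of_ix {m : ℕ} {a b : SI m} (h : ix a ≠ ix b) : a ≠ b ∧ a ≠ b.swap ∧ a.swap ≠ b :=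
  ⟨fun e => h (by rw [e]), fun e => h (by rw [e, ix_op]), fun e => h (by rw [← e, ix_op])⟩

theorem eq_or_eq_op {m : ℕ} {a b : SI m} (h : ix a = ix b) : a = b ∨ a = b.swap := by
  cases a <;> cases b <;> simp_all [ix]

theorem exists_third {m : ℕ} (hm : 3 ≤ m) (a b : SI m) : ∃ c : SI m, ix c ≠ ix a ∧ ix c ≠ ix b := by
  obtain ⟨c, hc⟩ : ∃ c : Fin m, c ∉ ({ix a, ix b} : Finset (Fin m)) := by
    by_contra h
    push Not at h
    have h1 := Finset.card_le_card (show (Finset.univ : Finset (Fin m)) ⊆ {ix a, ix b} from fun x _ => h x)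
    have h2 : ({ix a, ix b} : Finset (Fin m)).card ≤ 2 := Finset.card_le_two
    rw [Finset.card_univ, Fintype.card_fin] at h1
    omega
  simp only [Finset.mem_insert, Finset.mem_singleton, not_or] at hc
  exact ⟨Sum.inl c, hc⟩

/-- The data: a number of hyperbolic pairs and an anisotropic binary form. -/
structure Datum (F : Type u) [Field F] where
  m : ℕ
  a : F
  b : F
  aniso : ∀ r : F, r ^ 2 ≠ -b + a * r

namespace Datum

variable {F : Type u} [Field F] (D : Datum F)

/-- The index type. -/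
abbrev Idx : Type := (Fin D.m ⊕ Fin D.m) ⊕ Fin 2

/-- The space. -/
abbrev V : Type u := D.Idx → F

/-- The quadratic extension. -/
abbrev K : Type u := QuadraticAlgebra F (-D.b) D.a

instance instFact : Fact (∀ r : F, r ^ 2 ≠ -D.b + D.a * r) := ⟨D.aniso⟩

instance instFinite [Finite F] : Finite D.K := Finite.of_equiv _ (QuadraticAlgebra.equivProd _ _).symm

/-- The form. -/
abbrev Q : QuadraticForm F D.V := minusForm D.m F D.a D.b

/-- The isometry group. -/
abbrev O : Subgroup (Matrix.GeneralLinearGroup D.Idx F) := Cfsg.isometryGroup F ⇑D.Q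

/-- A standard singular vector. -/
def e (c : SI D.m) : D.V := Pi.single (Sum.inl c) 1

/-- The anisotropic plane. -/
def j : D.K →ₗ[F] D.V where
  toFun u := Sum.elim (fun _ => 0) ![u.re, u.im]
  map_add' u v := by funext i; rcases i with i | i; · simp
                     fin_cases i <;> simp
  map_smul' k u := by funext i; rcases i with i | i; · simp
                      fin_cases i <;> simp

/-- The trace form of the extension. -/
def bK (u v : D.K) : F := QuadraticAlgebra.trace (u * star v)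

theorem Q_apply (v : D.V) : D.Q v = (∑ i : Fin D.m, v (.inl (.inl i)) * v (.inl (.inr i)))
    + (v (.inr 0) ^ 2 + D.a * v (.inr 0) * v (.inr 1) + D.b * v (.inr 1) ^ 2) := by
  rw [show D.Q v = Cfsg.quadFormMinus D.m F D.a D.b v from congrFun (coe_minusForm _ _ _) v]; rfl

theorem Q_j (u : D.K) : D.Q (D.j u) = QuadraticAlgebra.norm u := by
  rw [Q_apply, QuadraticAlgebra.norm_def]
  simp [j]
  ring

theorem Q_e (c : SI D.m) : D.Q (D.e c) = 0 := by
  rw [Q_apply]
  rcases c with c | c <;> simp [e, Pi.single_apply]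

theorem polar_e_left (c : SI D.m) (v : D.V) : polar ⇑D.Q (D.e c) v = v (Sum.inl c.swap) := by
  rw [polar, Q_apply, Q_apply, Q_apply]
  rcases c with c | c <;>
    simp [e, Pi.single_apply, add_mul, mul_add, Finset.sum_add_distrib, ite_mul, mul_ite] <;> ring

theorem polar_e_e (c d : SI D.m) : polar ⇑D.Q (D.e c) (D.e d) = if d = c.swap then 1 else 0 := by
  rw [polar_e_left]
  simp [e, Pi.single_apply, eq_comm]

theorem polar_e_j (c : SI D.m) (u : D.K) : polar ⇑D.Q (D.e c) (D.j u) = 0 := by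
  rw [polar_e_left]; rfl

theorem polar_j_e (c : SI D.m) (u : D.K) : polar ⇑D.Q (D.j u) (D.e c) = 0 := by
  rw [QuadraticMap.polar_comm, polar_e_j]

theorem polar_j_j (u v : D.K) : polar ⇑D.Q (D.j u) (D.j v) = D.bK u v := by
  rw [polar, ← map_add, Q_j, Q_j, Q_j, bK, QuadraticAlgebra.trace_def, QuadraticAlgebra.norm_def,
    QuadraticAlgebra.norm_def, QuadraticAlgebra.norm_def]
  simp only [QuadraticAlgebra.re_add, QuadraticAlgebra.im_add, QuadraticAlgebra.re_mul,
    QuadraticAlgebra.im_mul, QuadraticAlgebra.re_star, QuadraticAlgebra.im_star]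
  ring

theorem e_ne_zero (c : SI D.m) : D.e c ≠ 0 := fun h => one_ne_zero (α := F) (by
  simpa [e] using congrFun h (Sum.inl c))

theorem e_inj {c d : SI D.m} {k l : F} (h : k • D.e c = l • D.e d) (hl : l ≠ 0) : c = d := by
  by_contra hne
  apply hl
  have := congrFun h (Sum.inl d)
  simpa [e, Pi.single_apply, Ne.symm hne] using this.symm

theorem j_injective : Function.Injective D.j := fun u v h =>
  QuadraticAlgebra.ext (by simpa [j] using congrFun h (Sum.inr 0)) (by simpa [j] using congrFun h (Sum.inr 1))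

/-- Every vector is a combination of the standard ones. -/
theorem decomp (v : D.V) : v = (∑ c : SI D.m, v (Sum.inl c) • D.e c) + D.j ⟨v (.inr 0), v (.inr 1)⟩ := by
  funext i
  rcases i with i | i
  · rw [Pi.add_apply, Finset.sum_apply, Finset.sum_eq_single i (fun c _ hc => by simp [e, Pi.single_apply, Ne.symm hc])
      (fun h => absurd (Finset.mem_univ i) h)]
    simp [e, j]
  · fin_cases i <;> simp [e, j]

theorem ext_app {g h : ↥D.O} (he : ∀ c, app g (D.e c) = app h (D.e c))
    (hj : ∀ u, app g (D.j u) = app h (D.j u)) : g = h := by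
  refine isometry_ext fun v => ?_
  rw [D.decomp v, app_add, app_add, hj]
  congr 1
  have hs : ∀ g : ↥D.O, app g (∑ c : SI D.m, v (Sum.inl c) • D.e c) =
      ∑ c : SI D.m, v (Sum.inl c) • app g (D.e c) := fun g => by
    unfold app
    rw [Matrix.mulVec_sum]
    simp only [Matrix.mulVec_smul]
  rw [hs, hs]
  simp only [he]

/-! ### Eichler elements -/

open _root_.Classical in
/-- The Eichler element of `u` and `v`. -/
noncomputable def E (u v : D.V) : ↥D.O :=
  if h : D.Q u = 0 ∧ polar ⇑D.Q u v = 0 then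
    ofEquiv D.Q (eichlerEquiv D.Q u (-v) h.1 (by rw [polar_neg_right, h.2, neg_zero]))
      (fun y => eichlerEquiv_mem D.Q u (-v) h.1 (by rw [polar_neg_right, h.2, neg_zero]) y)
  else 1

theorem app_E {u v : D.V} (hu : D.Q u = 0) (huv : polar ⇑D.Q u v = 0) (x : D.V) :
    app (D.E u v) x = x + polar ⇑D.Q u x • v - (polar ⇑D.Q v x + D.Q v * polar ⇑D.Q u x) • u := by
  rw [E, dif_pos ⟨hu, huv⟩]
  refine (app_ofEquiv _ _ _).trans ?_
  rw [eichlerEquiv_apply, polar_neg_right, QuadraticMap.map_neg,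
    QuadraticMap.polar_comm _ x u, QuadraticMap.polar_comm _ x v]
  module

theorem E_add {u v v' : D.V} (hu : D.Q u = 0) (h : polar ⇑D.Q u v = 0) (h' : polar ⇑D.Q u v' = 0) :
    D.E u v * D.E u v' = D.E u (v + v') := by
  refine isometry_ext fun x => ?_
  rw [app_mul, D.app_E hu h, D.app_E hu h', D.app_E hu (by rw [polar_add_right, h, h', add_zero])]
  simp only [polar_add_right, polar_sub_right, polar_smul_right, polar_add_left, QuadraticMap.map_add (⇑D.Q),
    polar_self, hu, h', smul_eq_mul, mul_zero, sub_zero, add_zero, nsmul_zero, smul_zero,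
    QuadraticMap.polar_comm (⇑D.Q) v u, h]
  module

theorem E_zero (u : D.V) : D.E u 0 = 1 := by
  by_cases h : D.Q u = 0
  · refine isometry_ext fun x => ?_
    rw [D.app_E h (polar_zero_right _ _), app_one, QuadraticMap.map_zero, polar_zero_left]
    simp
  · rw [E, dif_neg fun e => h e.1]

theorem E_neg {u v : D.V} (hu : D.Q u = 0) (h : polar ⇑D.Q u v = 0) : D.E u (-v) = (D.E u v)⁻¹ := by
  refine eq_inv_of_mul_eq_one_left ?_
  rw [D.E_add hu (by rw [polar_neg_right, h, neg_zero]) h, neg_add_cancel, E_zero]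

theorem E_conj (g : ↥D.O) (u v : D.V) : g * D.E u v * g⁻¹ = D.E (app g u) (app g v) := by
  by_cases h : D.Q u = 0 ∧ polar ⇑D.Q u v = 0
  · refine isometry_ext fun x => ?_
    obtain ⟨y, rfl⟩ : ∃ y, x = app g y := ⟨app g⁻¹ x, (app_app_inv g x).symm⟩
    rw [D.app_E (by rw [Q_app, h.1]) (by rw [polar_app, h.2]), app_mul, app_mul, app_inv_app,
      D.app_E h.1 h.2, app_sub, app_add, app_smul, app_smul, polar_app, polar_app, Q_app]
  · rw [E, dif_neg h, E, dif_neg (by rwa [Q_app, polar_app]), mul_one, mul_inv_cancel]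

theorem E_smul {u v : D.V} (hu : D.Q u = 0) (h : polar ⇑D.Q u v = 0) (k : F) :
    D.E (k • u) v = D.E u (k • v) := by
  refine isometry_ext fun x => ?_
  rw [D.app_E (by rw [QuadraticMap.map_smul, hu, smul_zero]) (by rw [polar_smul_left, h, smul_zero]),
    D.app_E hu (by rw [polar_smul_right, h, smul_zero])]
  simp only [polar_smul_left, QuadraticMap.map_smul, smul_eq_mul]
  module

theorem E_swap {u v : D.V} (hu : D.Q u = 0) (hv : D.Q v = 0) (h : polar ⇑D.Q u v = 0) :
    D.E u v = D.E v (-u) := by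
  refine isometry_ext fun x => ?_
  rw [D.app_E hu h, D.app_E hv (by rw [polar_neg_right, QuadraticMap.polar_comm, h, neg_zero]),
    QuadraticMap.map_neg, hu, hv, polar_neg_left]
  module

theorem E_self {u : D.V} (hu : D.Q u = 0) (k : F) : D.E u (k • u) = 1 := by
  refine isometry_ext fun x => ?_
  rw [D.app_E hu (by rw [polar_smul_right, polar_self, hu]; simp), app_one, QuadraticMap.map_smul, hu,
    polar_smul_left]
  simp only [smul_eq_mul, mul_zero, zero_mul, add_zero]
  module

theorem E_eq_of_fix {g : ↥D.O} {u v : D.V} (h1 : app g u = u) (h2 : app g v = v) : Commute g (D.E u v) := by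
  have := D.E_conj g u v
  rw [h1, h2] at this
  exact mul_inv_eq_iff_eq_mul.mp this

/-- A long root element. -/
noncomputable def x (a b : SI D.m) (t : F) : ↥D.O := D.E (D.e a) (t • D.e b)

/-- A short root element. -/
noncomputable def z (a : SI D.m) (w : D.K) : ↥D.O := D.E (D.e a) (D.j w)

theorem polar_x {a b : SI D.m} (h : ix a ≠ ix b) (t : F) : polar ⇑D.Q (D.e a) (t • D.e b) = 0 := by
  rw [polar_smul_right, polar_e_e, if_neg (fun e => (ne_of_ix h).2.2 e.symm), smul_zero]

theorem app_x_e {a b : SI D.m} (h : ix a ≠ ix b) (t : F) (c : SI D.m) :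
    app (D.x a b t) (D.e c) = D.e c + (if c = a.swap then t else 0) • D.e b -
      (if c = b.swap then t else 0) • D.e a := by
  rw [x, D.app_E (D.Q_e a) (D.polar_x h t), QuadraticMap.map_smul, Q_e, polar_smul_left, polar_e_e, polar_e_e]
  split_ifs <;> simp [smul_smul]

theorem app_x_j {a b : SI D.m} (h : ix a ≠ ix b) (t : F) (u : D.K) :
    app (D.x a b t) (D.j u) = D.j u := by
  rw [x, D.app_E (D.Q_e a) (D.polar_x h t), polar_smul_left, polar_e_j, polar_e_j]
  simp

theorem app_x_fix {a b : SI D.m} (h : ix a ≠ ix b) (t : F) {c : SI D.m} (h1 : c ≠ a.swap) (h2 : c ≠ b.swap) :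
    app (D.x a b t) (D.e c) = D.e c := by
  rw [app_x_e D h, if_neg h1, if_neg h2]; simp

theorem app_z_e (a : SI D.m) (w : D.K) (c : SI D.m) :
    app (D.z a w) (D.e c) = D.e c + (if c = a.swap then (1 : F) else 0) • D.j w -
      (if c = a.swap then QuadraticAlgebra.norm w else 0) • D.e a := by
  rw [z, D.app_E (D.Q_e a) (D.polar_e_j a w), polar_j_e, polar_e_e, Q_j]
  split_ifs <;> simp

theorem app_z_fix (a : SI D.m) (w : D.K) {c : SI D.m} (h : c ≠ a.swap) : app (D.z a w) (D.e c) = D.e c := by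
  rw [app_z_e, if_neg h, if_neg h]; simp

theorem app_z_op (a : SI D.m) (w : D.K) :
    app (D.z a w) (D.e a.swap) = D.e a.swap + D.j w - QuadraticAlgebra.norm w • D.e a := by
  rw [app_z_e, if_pos rfl, if_pos rfl, one_smul]

theorem app_z_j (a : SI D.m) (w u : D.K) :
    app (D.z a w) (D.j u) = D.j u - D.bK w u • D.e a := by
  rw [z, D.app_E (D.Q_e a) (D.polar_e_j a w), polar_j_j, polar_e_j]
  simp

theorem z_add (a : SI D.m) (w w' : D.K) : D.z a w * D.z a w' = D.z a (w + w') := by
  rw [z, z, D.E_add (D.Q_e a) (D.polar_e_j a w) (D.polar_e_j a w'), z, map_add]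

theorem z_zero (a : SI D.m) : D.z a 0 = 1 := by rw [z, map_zero, E_zero]

theorem z_neg (a : SI D.m) (w : D.K) : D.z a (-w) = (D.z a w)⁻¹ :=
  eq_inv_of_mul_eq_one_left (by rw [z_add, neg_add_cancel, z_zero])

theorem x_add {a b : SI D.m} (h : ix a ≠ ix b) (t t' : F) : D.x a b t * D.x a b t' = D.x a b (t + t') := by
  rw [x, x, D.E_add (D.Q_e a) (D.polar_x h t) (D.polar_x h t'), x, add_smul]

theorem x_zero (a b : SI D.m) : D.x a b 0 = 1 := by rw [x, zero_smul, E_zero]

theorem x_flip {a b : SI D.m} (h : ix a ≠ ix b) (t : F) : D.x b a t = D.x a b (-t) := by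
  rw [x, D.E_swap (D.Q_e b) (by rw [QuadraticMap.map_smul, Q_e, smul_zero]) (D.polar_x (Ne.symm h) t),
    D.E_smul (D.Q_e a) (by
      rw [polar_neg_right, polar_e_e, if_neg (fun e => (ne_of_ix h).2.2 e.symm), neg_zero]) t, x]
  congr 1
  module

theorem x_inj {a b : SI D.m} (h : ix a ≠ ix b) {t t' : F} (he : D.x a b t = D.x a b t') : t = t' := by
  have h1 := congrArg (fun g => app g (D.e a.swap) (Sum.inl b)) he
  simp only [app_x_e D h, if_pos] at h1
  obtain ⟨n1, n2, n3⟩ := ne_of_ix h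
  simpa [e, Pi.single_apply, Ne.symm n1, Ne.symm n3, show a.swap ≠ b.swap from fun e => n1 (Sum.swap_swap a ▸ e ▸ Sum.swap_swap b)] using h1

theorem z_inj {a : SI D.m} {w w' : D.K} (he : D.z a w = D.z a w') : w = w' := by
  have h1 := congrArg (fun g => app g (D.e a.swap)) he
  simp only [app_z_op] at h1
  refine QuadraticAlgebra.ext ?_ ?_
  · simpa [e, j] using congrFun h1 (Sum.inr 0)
  · simpa [e, j] using congrFun h1 (Sum.inr 1)

/-! ### Commutators -/

theorem commute_x_E {a b : SI D.m} (h : ix a ≠ ix b) (t : F) {c d : SI D.m} (t' : F)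
    (h1 : c ≠ a.swap) (h2 : c ≠ b.swap) (h3 : d ≠ a.swap) (h4 : d ≠ b.swap) :
    Commute (D.x a b t) (D.x c d t') :=
  D.E_eq_of_fix (D.app_x_fix h t h1 h2) (by rw [app_smul, D.app_x_fix h t h3 h4])

theorem commute_x_z {a b : SI D.m} (h : ix a ≠ ix b) (t : F) {c : SI D.m} (w : D.K)
    (h1 : c ≠ a.swap) (h2 : c ≠ b.swap) : Commute (D.x a b t) (D.z c w) :=
  D.E_eq_of_fix (D.app_x_fix h t h1 h2) (D.app_x_j h t w)

theorem commute_x_vPair {a c : SI D.m} (hac : ix a ≠ ix c) (s t : F) :
    Commute (D.x a c s) (D.x a c.swap t) := by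
  obtain ⟨n1, n2, n3⟩ := ne_of_ix hac
  have hac' : ix a ≠ ix c.swap := by rwa [ix_op]
  refine mul_inv_eq_iff_eq_mul.mp ?_
  show D.x a c s * D.E (D.e a) (t • D.e c.swap) * (D.x a c s)⁻¹ = D.x a c.swap t
  rw [D.E_conj, app_smul, D.app_x_fix hac s (op_ne a).symm n2, D.app_x_e hac,
    if_neg (fun e => n1 (by rw [← Sum.swap_swap c, e, Sum.swap_swap])), if_pos rfl, zero_smul, add_zero,
    show t • (D.e c.swap - s • D.e a) = t • D.e c.swap + (-(t * s)) • D.e a by module,
    ← D.E_add (D.Q_e a) (D.polar_x hac' t) (by rw [polar_smul_right, polar_self, Q_e]; simp),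
    D.E_self (D.Q_e a), mul_one, x]

theorem comm_z_z {a c : SI D.m} (h : c ≠ a.swap) (w w' : D.K) :
    ⁅D.z a w, D.z c w'⁆ = D.x a c (D.bK w w') := by
  have hp : polar ⇑D.Q (D.e c) (D.e a) = 0 := by
    rw [polar_e_e, if_neg (fun e => h (by rw [e, Sum.swap_swap]))]
  rw [commutatorElement_def, ← D.z_neg c w']
  show D.z a w * D.E (D.e c) (D.j w') * (D.z a w)⁻¹ * D.E (D.e c) (D.j (-w')) = _
  rw [D.E_conj, D.app_z_fix a w h, app_z_j,
    D.E_add (D.Q_e c) (by rw [polar_sub_right, polar_smul_right, hp, polar_e_j, smul_zero, sub_zero])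
      (D.polar_e_j c _),
    show D.j w' - D.bK w w' • D.e a + D.j (-w') = (-D.bK w w') • D.e a by rw [map_neg]; module]
  by_cases hca : ix a = ix c
  · rcases eq_or_eq_op hca with e1 | e1
    · subst e1
      rw [E_self D (D.Q_e a), x, E_self D (D.Q_e a)]
    · exact absurd (by rw [e1, Sum.swap_swap]) h
  · exact (D.x_flip hca (-D.bK w w')).trans (by rw [neg_neg])

theorem comm_x_x {a b c : SI D.m} (hac : ix a ≠ ix c) (hab : ix a ≠ ix b) (hcb : ix c ≠ ix b) (t u : F) :
    ⁅D.x a c t, D.x c.swap b u⁆ = D.x a b (-(t * u)) := by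
  obtain ⟨n1, n2, n3⟩ := ne_of_ix hac
  obtain ⟨m1, m2, m3⟩ := ne_of_ix hab
  obtain ⟨l1, l2, l3⟩ := ne_of_ix hcb
  have hc'b : ix c.swap ≠ ix b := by rwa [ix_op]
  have hp1 : polar ⇑D.Q (D.e b) (D.e c.swap) = 0 := by
    rw [polar_e_e, if_neg (fun e => l1 (by rw [← Sum.swap_swap c, e, Sum.swap_swap]))]
  have hp2 : polar ⇑D.Q (D.e b) (D.e a) = 0 := by
    rw [polar_e_e, if_neg m2]
  rw [commutatorElement_def]
  show D.x a c t * D.E (D.e c.swap) (u • D.e b) * (D.x a c t)⁻¹ * (D.x c.swap b u)⁻¹ = _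
  rw [D.E_conj, app_smul, D.app_x_fix hac t (Ne.symm m3) (Ne.symm l3), D.app_x_e hac,
    if_neg (fun e => n1 (by rw [← Sum.swap_swap c, e, Sum.swap_swap])), if_pos rfl,
    show D.x c.swap b u = D.E (D.e b) (-u • D.e c.swap) from (D.x_flip (Ne.symm hc'b) u),
    ← E_neg D (D.Q_e b) (by rw [polar_smul_right, hp1, smul_zero]), zero_smul, add_zero,
    D.E_swap (u := D.e c.swap - t • D.e a) ?_ (by rw [QuadraticMap.map_smul, Q_e, smul_zero]) ?_,
    D.E_smul (D.Q_e b) ?_ u, D.E_add (D.Q_e b) ?_ (by rw [polar_neg_right, polar_smul_right, hp1, smul_zero, neg_zero]),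
    D.x_flip (Ne.symm hab) (-(t * u)), x]
  · congr 1
    module
  · rw [polar_smul_right, polar_neg_right, polar_sub_right, polar_smul_right, hp1, hp2]; simp
  · rw [polar_neg_right, polar_sub_right, polar_smul_right, hp1, hp2]; simp
  · rw [sub_eq_add_neg, QuadraticMap.map_add (⇑D.Q), QuadraticMap.map_neg, QuadraticMap.map_smul, Q_e, Q_e,
      polar_neg_right, polar_smul_right, polar_e_e, Sum.swap_swap, if_neg n1]
    simp
  · rw [polar_smul_right, QuadraticMap.polar_comm, polar_sub_right, polar_smul_right, hp1, hp2]; simp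

theorem comm_x_z {a c : SI D.m} (hac : ix a ≠ ix c) (t : F) (w : D.K) :
    ⁅D.x a c t, D.z c.swap w⁆ = D.z a (-(t • w)) * D.x a c.swap (t * QuadraticAlgebra.norm w) := by
  obtain ⟨n1, n2, n3⟩ := ne_of_ix hac
  have hac' : ix a ≠ ix c.swap := by rwa [ix_op]
  have hp : polar ⇑D.Q (D.e a) (D.e c.swap) = 0 := by
    rw [polar_e_e, if_neg (fun e => n1 (by rw [← Sum.swap_swap a, ← e, Sum.swap_swap]))]
  rw [commutatorElement_def, ← z_neg]
  show D.x a c t * D.E (D.e c.swap) (D.j w) * (D.x a c t)⁻¹ * D.E (D.e c.swap) (D.j (-w)) = _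
  rw [D.E_conj, app_x_j D hac, app_x_e D hac, if_neg (fun e => n1 (by rw [← Sum.swap_swap c, e, Sum.swap_swap])),
    if_pos rfl, zero_smul, add_zero]
  have hu : D.Q (D.e c.swap - t • D.e a) = 0 := by
    rw [sub_eq_add_neg, QuadraticMap.map_add (⇑D.Q), QuadraticMap.map_neg, QuadraticMap.map_smul, Q_e, Q_e,
      polar_neg_right, polar_smul_right, QuadraticMap.polar_comm, hp]
    simp
  have huj : polar ⇑D.Q (D.e c.swap - t • D.e a) (D.j w) = 0 := by
    rw [polar_sub_left, polar_smul_left, polar_e_j, polar_e_j]; simp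
  refine isometry_ext fun v => ?_
  rw [app_mul, app_mul, z, x, D.app_E hu huj, D.app_E (D.Q_e _) (D.polar_e_j _ _),
    D.app_E (D.Q_e a) (D.polar_e_j _ _), D.app_E (D.Q_e a) (D.polar_x hac' _)]
  simp only [map_neg, LinearMap.map_smul, polar_add_right, polar_sub_right, polar_add_left, polar_sub_left,
    polar_smul_left, polar_smul_right, polar_neg_left, polar_neg_right, QuadraticMap.map_neg,
    QuadraticMap.map_smul, Q_e, polar_e_e, Sum.swap_swap, polar_e_j, polar_j_e, polar_self, Q_j, smul_eq_mul]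
  simp only [n1, Ne.symm n1, Ne.symm n3, n3, n2, Ne.symm n2, if_false, if_true, reduceIte,
    show c.swap ≠ a.swap from fun e => n1 (by rw [← Sum.swap_swap c, e, Sum.swap_swap]),
    show a.swap ≠ c.swap from fun e => n1 (by rw [← Sum.swap_swap c, ← e, Sum.swap_swap]),
    mul_zero, zero_mul, add_zero, zero_add, sub_zero, neg_zero, zero_smul, smul_zero, nsmul_eq_mul]
  module

/-! ### Monomial isometries -/

/-- Conjugation of the extension, or not. -/
def cj (ε : Bool) (u : D.K) : D.K := cond ε (star u) u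

/-- An isometry permuting the standard lines and acting on the plane by a semilinear similitude. -/
structure Mono (g : ↥D.O) (π : SI D.m → SI D.m) (k : SI D.m → F) (c : D.K) (ε : Bool) : Prop where
  he : ∀ a, app g (D.e a) = k a • D.e (π a)
  hj : ∀ u, app g (D.j u) = D.j (c * D.cj ε u)

namespace Mono

variable {D}
variable {g g' : ↥D.O} {π π' : SI D.m → SI D.m} {k k' : SI D.m → F} {c c' : D.K} {ε ε' : Bool}

theorem k_ne (M : D.Mono g π k c ε) (a : SI D.m) : k a ≠ 0 := fun h => by
  have := M.he a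
  rw [h, zero_smul] at this
  exact D.e_ne_zero a (app_injective g (this.trans (app_zero g).symm))

theorem c_ne (M : D.Mono g π k c ε) : c ≠ 0 := fun h => by
  have := M.hj 1
  rw [h, zero_mul, map_zero] at this
  exact one_ne_zero (D.j_injective ((app_injective g (this.trans (app_zero g).symm)).trans (map_zero D.j).symm))

theorem pi_inj (M : D.Mono g π k c ε) : Function.Injective π := by
  intro a b h
  have h1 : app g (k b • D.e a) = app g (k a • D.e b) := by
    rw [app_smul, app_smul, M.he, M.he, h, smul_smul, smul_smul, mul_comm]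
  exact D.e_inj (app_injective g h1) (M.k_ne a)

theorem pi_op (M : D.Mono g π k c ε) (a : SI D.m) : π a.swap = (π a).swap := by
  have h := polar_app g (D.e a) (D.e a.swap)
  rw [M.he, M.he, polar_smul_left, polar_smul_right, polar_e_e, polar_e_e, if_pos rfl] at h
  by_contra hne
  rw [if_neg hne, smul_zero, smul_zero] at h
  exact zero_ne_one h

theorem k_op (M : D.Mono g π k c ε) (a : SI D.m) : k a * k a.swap = 1 := by
  have h := polar_app g (D.e a) (D.e a.swap)
  rwa [M.he, M.he, polar_smul_left, polar_smul_right, polar_e_e, polar_e_e, if_pos rfl, if_pos (M.pi_op a),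
    smul_eq_mul, smul_eq_mul, mul_one] at h

theorem ix_ne (M : D.Mono g π k c ε) {a b : SI D.m} (h : ix a ≠ ix b) : ix (π a) ≠ ix (π b) := by
  intro e
  rcases eq_or_eq_op e with e | e
  · exact h (by rw [M.pi_inj e])
  · rw [← M.pi_op] at e
    exact h (by rw [M.pi_inj e, ix_op])

theorem bK_map (M : D.Mono g π k c ε) (u v : D.K) : D.bK (c * D.cj ε u) (c * D.cj ε v) = D.bK u v := by
  rw [← polar_j_j, ← M.hj, ← M.hj, polar_app, polar_j_j]

theorem conj_x (M : D.Mono g π k c ε) {a b : SI D.m} (h : ix a ≠ ix b) (t : F) :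
    g * D.x a b t * g⁻¹ = D.x (π a) (π b) (k a * k b * t) := by
  rw [x, D.E_conj, app_smul, M.he, M.he, smul_smul, D.E_smul (D.Q_e _) (D.polar_x (M.ix_ne h) _), smul_smul, x]
  congr 2
  ring

theorem conj_z (M : D.Mono g π k c ε) (a : SI D.m) (w : D.K) :
    g * D.z a w * g⁻¹ = D.z (π a) (k a • (c * D.cj ε w)) := by
  rw [z, D.E_conj, M.he, M.hj, D.E_smul (D.Q_e _) (D.polar_e_j _ _), z, map_smul]

theorem cj_mul (u v : D.K) : D.cj ε (u * v) = D.cj ε u * D.cj ε v := by
  cases ε
  · rfl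
  · exact (star_mul u v).trans (mul_comm _ _)

theorem cj_smul (t : F) (u : D.K) : D.cj ε (t • u) = t • D.cj ε u := by
  cases ε
  · rfl
  · show star (t • u) = t • star u
    ext <;> simp [QuadraticAlgebra.re_star, QuadraticAlgebra.im_star] <;> ring

theorem mul (M : D.Mono g π k c ε) (M' : D.Mono g' π' k' c' ε') :
    D.Mono (g * g') (π ∘ π') (fun a => k' a * k (π' a)) (c * D.cj ε c') (ε ^^ ε') := by
  refine ⟨fun a => ?_, fun u => ?_⟩
  · rw [app_mul, M'.he, app_smul, M.he, smul_smul]; rfl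
  · rw [app_mul, M'.hj, M.hj, cj_mul, mul_assoc]
    congr 3
    cases ε <;> cases ε' <;> simp [cj]

theorem one : D.Mono (1 : ↥D.O) id (fun _ => 1) 1 false :=
  ⟨fun a => by rw [app_one, one_smul]; rfl, fun u => by rw [app_one, one_mul]; rfl⟩

theorem congr_coef {k'' : SI D.m → F} {π'' : SI D.m → SI D.m} {c'' : D.K} (M : D.Mono g π k c ε)
    (hp : ∀ a, π a = π'' a) (hk : ∀ a, k a = k'' a) (hc : c = c'') : D.Mono g π'' k'' c'' ε :=
  ⟨fun a => by rw [M.he, hp, hk], fun u => by rw [M.hj, hc]⟩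

end Mono

/-- The isometry exchanging `e a` and `e a.swap`. -/
noncomputable def n (a : SI D.m) (w : D.K) : ↥D.O :=
  D.z a w * D.z a.swap ((QuadraticAlgebra.norm w)⁻¹ • w) * D.z a w

theorem norm_ne {w : D.K} (hw : w ≠ 0) : QuadraticAlgebra.norm w ≠ 0 :=
  fun h => hw (QuadraticAlgebra.norm_eq_zero_iff_eq_zero.mp h)

theorem bK_self (w : D.K) : D.bK w w = 2 * QuadraticAlgebra.norm w := by
  rw [← polar_j_j, polar_self, Q_j]; simp

theorem bK_smul_left (t : F) (u v : D.K) : D.bK (t • u) v = t * D.bK u v := by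
  rw [← polar_j_j, ← polar_j_j, map_smul, polar_smul_left]; rfl

theorem bK_smul_right (t : F) (u v : D.K) : D.bK u (t • v) = t * D.bK u v := by
  rw [← polar_j_j, ← polar_j_j, map_smul, polar_smul_right]; rfl

theorem bK_comm (u v : D.K) : D.bK u v = D.bK v u := by
  rw [← polar_j_j, ← polar_j_j, QuadraticMap.polar_comm]

theorem app_n_self (a : SI D.m) {w : D.K} (hw : w ≠ 0) :
    app (D.n a w) (D.e a) = (-(QuadraticAlgebra.norm w)⁻¹) • D.e a.swap := by
  have hN := D.norm_ne hw
  have h1 : app (D.z a.swap ((QuadraticAlgebra.norm w)⁻¹ • w)) (D.e a) =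
      D.e a + (QuadraticAlgebra.norm w)⁻¹ • D.j w - (QuadraticAlgebra.norm w)⁻¹ • D.e a.swap := by
    conv_lhs => arg 2; rw [← Sum.swap_swap a]
    rw [app_z_op, Sum.swap_swap, map_smul, show QuadraticAlgebra.norm ((QuadraticAlgebra.norm w)⁻¹ • w) =
      (QuadraticAlgebra.norm w)⁻¹ by
        rw [← Q_j, map_smul, QuadraticMap.map_smul, Q_j, smul_eq_mul]; field_simp]
  rw [n, app_mul, app_mul, app_z_fix D a w (fun e => op_ne a e.symm), h1, app_sub, app_add,
    app_smul, app_smul, app_z_fix D a w (fun e => op_ne a e.symm), app_z_j, app_z_op, bK_self]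
  match_scalars <;> field_simp <;> ring

theorem app_n_op (a : SI D.m) {w : D.K} (hw : w ≠ 0) :
    app (D.n a w) (D.e a.swap) = (-QuadraticAlgebra.norm w) • D.e a := by
  have hN := D.norm_ne hw
  have h1 : app (D.z a.swap ((QuadraticAlgebra.norm w)⁻¹ • w)) (D.e a) =
      D.e a + (QuadraticAlgebra.norm w)⁻¹ • D.j w - (QuadraticAlgebra.norm w)⁻¹ • D.e a.swap := by
    conv_lhs => arg 2; rw [← Sum.swap_swap a]
    rw [app_z_op, Sum.swap_swap, map_smul, show QuadraticAlgebra.norm ((QuadraticAlgebra.norm w)⁻¹ • w) =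
      (QuadraticAlgebra.norm w)⁻¹ by
        rw [← Q_j, map_smul, QuadraticMap.map_smul, Q_j, smul_eq_mul]; field_simp]
  rw [n, app_mul, app_mul, app_z_op]
  simp only [app_sub, app_add, app_smul, h1, app_z_j, D.app_z_fix a.swap _ (show a.swap ≠ a.swap.swap by
      rw [Sum.swap_swap]; exact op_ne a), app_z_op, D.app_z_fix a w (fun e => op_ne a e.symm),
    bK_smul_left, bK_self]
  match_scalars <;> field_simp <;> ring

theorem smul_eq_refl {w : D.K} (hw : w ≠ 0) (u : D.K) :
    u - ((QuadraticAlgebra.norm w)⁻¹ * D.bK w u) • w = -(w / star w) * star u := by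
  have hs : star w ≠ 0 := star_ne_zero.mpr hw
  have hb : algebraMap F D.K (D.bK w u) = w * star u + u * star w := by
    rw [bK, QuadraticAlgebra.algebraMap_trace_eq_add_star, star_mul, star_star]
  rw [Algebra.smul_def, map_mul, map_inv₀, QuadraticAlgebra.algebraMap_norm_eq_mul_star, hb]
  field_simp
  ring

theorem app_n_j (a : SI D.m) {w : D.K} (hw : w ≠ 0) (u : D.K) :
    app (D.n a w) (D.j u) = D.j (-(w / star w) * star u) := by
  have hN := D.norm_ne hw
  have h1 : app (D.z a.swap ((QuadraticAlgebra.norm w)⁻¹ • w)) (D.e a) =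
      D.e a + (QuadraticAlgebra.norm w)⁻¹ • D.j w - (QuadraticAlgebra.norm w)⁻¹ • D.e a.swap := by
    conv_lhs => arg 2; rw [← Sum.swap_swap a]
    rw [app_z_op, Sum.swap_swap, map_smul, show QuadraticAlgebra.norm ((QuadraticAlgebra.norm w)⁻¹ • w) =
      (QuadraticAlgebra.norm w)⁻¹ by
        rw [← Q_j, map_smul, QuadraticMap.map_smul, Q_j, smul_eq_mul]; field_simp]
  rw [← D.smul_eq_refl hw, n, app_mul, app_mul, app_z_j, map_sub, map_smul]
  simp only [app_sub, app_add, app_smul, h1, app_z_j, app_z_op, D.app_z_fix a w (fun e => op_ne a e.symm),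
    bK_smul_left, bK_self]
  match_scalars <;> field_simp <;> ring

theorem app_n_other (a : SI D.m) (w : D.K) {c : SI D.m} (h : ix c ≠ ix a) :
    app (D.n a w) (D.e c) = D.e c := by
  obtain ⟨n1, n2, n3⟩ := ne_of_ix h
  rw [n, app_mul, app_mul, app_z_fix D a w n2, app_z_fix D a.swap _ (by rw [Sum.swap_swap]; exact n1),
    app_z_fix D a w n2]

/-- Permutation of `n a w`. -/
def flipAt (a c : SI D.m) : SI D.m := if ix c = ix a then c.swap else c

/-- Coefficients of `n a w`. -/
noncomputable def nCoef (a : SI D.m) (w : D.K) (c : SI D.m) : F :=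
  if c = a then -(QuadraticAlgebra.norm w)⁻¹ else if c = a.swap then -QuadraticAlgebra.norm w else 1

theorem mono_n (a : SI D.m) {w : D.K} (hw : w ≠ 0) :
    D.Mono (D.n a w) (D.flipAt a) (D.nCoef a w) (-(w / star w)) true := by
  refine ⟨fun c => ?_, fun u => D.app_n_j a hw u⟩
  by_cases h : ix c = ix a
  · rcases eq_or_eq_op h with e | e <;> subst e
    · simp [flipAt, nCoef, app_n_self D c hw]
    · simp [flipAt, nCoef, app_n_op D a hw, op_ne a]
  · obtain ⟨n1, n2, n3⟩ := ne_of_ix h
    simp [flipAt, nCoef, h, n1, n2, app_n_other D a w h]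

theorem n_neg (a : SI D.m) (w : D.K) : D.n a (-w) = (D.n a w)⁻¹ := by
  rw [n, n, _root_.mul_inv_rev, _root_.mul_inv_rev, ← z_neg, ← z_neg, QuadraticAlgebra.norm_neg, smul_neg,
    mul_assoc]

/-- The torus element of `a` and `w`. -/
noncomputable def g (a : SI D.m) (w : D.K) : ↥D.O := D.n a w * D.n a (-1)

/-- Coefficients of `g a w`. -/
noncomputable def gCoef (a : SI D.m) (w : D.K) (c : SI D.m) : F :=
  if c = a then QuadraticAlgebra.norm w else if c = a.swap then (QuadraticAlgebra.norm w)⁻¹ else 1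

theorem mono_g (a : SI D.m) {w : D.K} (hw : w ≠ 0) :
    D.Mono (D.g a w) id (D.gCoef a w) (w / star w) false := by
  refine ((D.mono_n a hw).mul (D.mono_n a (neg_ne_zero.mpr one_ne_zero))).congr_coef (fun c => ?_)
    (fun c => ?_) ?_
  · by_cases h : ix c = ix a <;> simp [flipAt, h]
  · by_cases h : ix c = ix a
    · rcases eq_or_eq_op h with e | e <;> subst e
      · simp [nCoef, gCoef, flipAt, op_ne c, QuadraticAlgebra.norm_neg]
      · simp [nCoef, gCoef, flipAt, op_ne a, QuadraticAlgebra.norm_neg]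
    · obtain ⟨n1, n2, n3⟩ := ne_of_ix h
      simp [nCoef, gCoef, flipAt, h, n1, n2]
  · show -(w / star w) * star (-((-1 : D.K) / star (-1))) = w / star w
    simp

theorem g_commute_x (a : SI D.m) (w : D.K) {c d : SI D.m} (hcd : ix c ≠ ix d) (h1 : ix c ≠ ix a)
    (h2 : ix d ≠ ix a) (t : F) : Commute (D.g a w) (D.x c d t) :=
  D.E_eq_of_fix (by rw [g, app_mul, app_n_other D a _ h1, app_n_other D a _ h1])
    (by rw [app_smul, g, app_mul, app_n_other D a _ h2, app_n_other D a _ h2])

end Datum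

end Cfsg.Agent.Lib.Schur.MinusRoot
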