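import Cfsg.Agent.Lib.Schur.MinusRoot.Weyl

/-!
The lifted torus of minus type: normalised by the monomial elements, it meets the kernel in at most two
elements, one in characteristic two.
-/

set_option autoImplicit false
set_option linter.unusedSectionVars false

namespace Cfsg.Agent.Lib.Schur.MinusRoot

open Cfsg.Agent.Lib.Orth
open scoped commutatorElement

universe u w

section SupLemma

variable {G : Type*} [Group G]

/-- A join with a normalised subgroup is a product. -/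
theorem exists_mul_of_mem_sup {A B : Subgroup G} (h : ∀ x ∈ A, ∀ y ∈ B, x * y * x⁻¹ ∈ B) {g : G}
    (hg : g ∈ A ⊔ B) : ∃ x ∈ A, ∃ y ∈ B, g = x * y := by
  rw [Subgroup.sup_eq_closure] at hg
  induction hg using Subgroup.closure_induction with
  | mem g hg =>
    rcases hg with hg | hg
    · exact ⟨g, hg, 1, one_mem _, (mul_one g).symm⟩
    · exact ⟨1, one_mem _, g, hg, (one_mul g).symm⟩
  | one => exact ⟨1, one_mem _, 1, one_mem _, (mul_one _).symm⟩
  | mul g g' _ _ ih ih' =>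
    obtain ⟨x, hx, y, hy, rfl⟩ := ih
    obtain ⟨x', hx', y', hy', rfl⟩ := ih'
    have h1 := h x'⁻¹ (inv_mem hx') y hy
    rw [inv_inv] at h1
    exact ⟨x * x', mul_mem hx hx', x'⁻¹ * y * x' * y', mul_mem h1 hy', by group⟩
  | inv g _ ih =>
    obtain ⟨x, hx, y, hy, rfl⟩ := ih
    exact ⟨x⁻¹, inv_mem hx, x * y⁻¹ * x⁻¹, h x hx _ (inv_mem hy), by group⟩

/-- Conjugation preserving the generators preserves the subgroup. -/
theorem conj_mem_closure {s : Set G} {S : Subgroup G} (γ : G) (h : ∀ y ∈ s, γ * y * γ⁻¹ ∈ S) {x : G}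
    (hx : x ∈ Subgroup.closure s) : γ * x * γ⁻¹ ∈ S :=
  (Subgroup.closure_le (S.comap (MulAut.conj γ).toMonoidHom)).mpr h hx

end SupLemma

variable {F : Type u} [Field F] {D : Datum F}

namespace Datum

theorem Mono.coef_eq {g : ↥D.O} {k k' : SI D.m → F} {c c' : D.K} {ε ε' : Bool}
    (M : D.Mono g id k c ε) (M' : D.Mono g id k' c' ε') (a : SI D.m) : k a = k' a :=
  smul_left_injective F (D.e_ne_zero a) ((M.he a).symm.trans (M'.he a))

theorem Mono.c_eq {g : ↥D.O} {π π' : SI D.m → SI D.m} {k k' : SI D.m → F} {c c' : D.K}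
    (M : D.Mono g π k c false) (M' : D.Mono g π' k' c' false) : c = c' := by
  have h := D.j_injective ((M.hj 1).symm.trans (M'.hj 1))
  simpa [Datum.cj] using h

theorem Mono.inv_id {g : ↥D.O} {k : SI D.m → F} {c : D.K} (M : D.Mono g id k c false) :
    D.Mono g⁻¹ id (fun a => (k a)⁻¹) c⁻¹ false := by
  refine ⟨fun a => app_injective g ?_, fun u => app_injective g ?_⟩
  · rw [app_app_inv, app_smul, id, M.he, id, smul_smul, inv_mul_cancel₀ (M.k_ne a), one_smul]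
  · rw [app_app_inv, M.hj]
    congr 1
    show u = c * (c⁻¹ * u)
    rw [mul_inv_cancel_left₀ M.c_ne]

end Datum

namespace Ext

open Datum

variable {Γ : Type w} [Group Γ] (L : Ext D Γ)

/-- The first index. -/
def fst' : Fin D.m := ⟨0, Nat.lt_of_lt_of_le (by norm_num) L.three_le⟩

/-- The last index. -/
def lst' : Fin D.m := ⟨D.m - 1, by have := L.three_le; omega⟩

theorem fst_ne_lst : L.fst' ≠ L.lst' := by
  have := L.three_le
  simp [fst', lst', Fin.ext_iff]; omega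

/-- The reference signed index. -/
def p₀ : SI D.m := Sum.inl L.lst'

/-- The first signed index. -/
def j₀ : SI D.m := Sum.inl L.fst'

theorem ix_j₀_ne : ix L.j₀ ≠ ix L.p₀ := L.fst_ne_lst

/-- The subgroup generated by the long torus elements. -/
noncomputable def DH : Subgroup Γ :=
  Subgroup.closure {x | ∃ (a b : SI D.m) (t : F), ix a ≠ ix b ∧ t ≠ 0 ∧ x = L.H a b t}

/-- The lifted torus. -/
noncomputable def T : Subgroup Γ := L.DH ⊔ Subgroup.zpowers (L.G L.p₀)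

theorem H_mem_DH {a b : SI D.m} (h : ix a ≠ ix b) {t : F} (ht : t ≠ 0) : L.H a b t ∈ L.DH :=
  Subgroup.subset_closure ⟨a, b, t, h, ht, rfl⟩

theorem S_mem_DH {a b : SI D.m} (h : ix a ≠ ix b) {t : F} (ht : t ≠ 0) : L.S a b t ∈ L.DH :=
  mul_mem (L.H_mem_DH h ht) (L.H_mem_DH (by rwa [ix_op]) ht)

theorem DH_le_T : L.DH ≤ L.T := le_sup_left

theorem mono_DH {x : Γ} (hx : x ∈ L.DH) : ∃ k, D.Mono (L.σ x) id k 1 false := by
  induction hx using Subgroup.closure_induction with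
  | mem x hx => obtain ⟨a, b, t, h, ht, rfl⟩ := hx; exact ⟨_, L.mono_H h ht⟩
  | one => exact ⟨_, (map_one L.σ).symm ▸ Mono.one⟩
  | mul x y _ _ ih ih' =>
    obtain ⟨k, M⟩ := ih
    obtain ⟨k', M'⟩ := ih'
    exact ⟨_, (map_mul L.σ x y).symm ▸ (M.mul M').congr_coef (fun a => rfl) (fun a => rfl) (by simp [Datum.cj])⟩
  | inv x _ ih =>
    obtain ⟨k, M⟩ := ih
    exact ⟨_, (map_inv L.σ x).symm ▸ M.inv_id.congr_coef (fun a => rfl) (fun a => rfl) inv_one⟩

variable [Finite F]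

theorem mono_T {x : Γ} (hx : x ∈ L.T) : ∃ k c, D.Mono (L.σ x) id k c false := by
  rw [T, Subgroup.sup_eq_closure] at hx
  induction hx using Subgroup.closure_induction with
  | mem x hx =>
    rcases hx with hx | hx
    · obtain ⟨k, M⟩ := L.mono_DH hx; exact ⟨k, 1, M⟩
    · obtain ⟨n, rfl⟩ := Subgroup.mem_zpowers_iff.mp hx
      clear hx
      induction n using Int.induction_on with
      | zero => rw [zpow_zero, map_one]; exact ⟨_, _, Mono.one⟩
      | succ i ih =>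
        obtain ⟨k, c, M⟩ := ih
        rw [zpow_add_one, map_mul]; exact ⟨_, _, M.mul (L.mono_G L.p₀)⟩
      | pred i ih =>
        obtain ⟨k, c, M⟩ := ih
        rw [zpow_sub_one, map_mul, map_inv]; exact ⟨_, _, M.mul (L.mono_G L.p₀).inv_id⟩
  | one => rw [map_one]; exact ⟨_, _, Mono.one⟩
  | mul x y _ _ ih ih' =>
    obtain ⟨k, c, M⟩ := ih
    obtain ⟨k', c', M'⟩ := ih'
    rw [map_mul]; exact ⟨_, _, M.mul M'⟩
  | inv x _ ih =>
    obtain ⟨k, c, M⟩ := ih
    rw [map_inv]; exact ⟨_, _, M.inv_id⟩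

/-- Diagonal elements centralise the long torus elements. -/
theorem commute_DH {γ : Γ} {k : SI D.m → F} {c : D.K} (M : D.Mono (L.σ γ) id k c false) {x : Γ}
    (hx : x ∈ L.DH) : Commute γ x := by
  induction hx using Subgroup.closure_induction with
  | mem x hx =>
    obtain ⟨a, b, t, h, ht, rfl⟩ := hx
    exact mul_inv_eq_iff_eq_mul.mp (L.conj_H' M h ht)
  | one => exact Commute.one_right _
  | mul x y _ _ ih ih' => exact ih.mul_right ih'
  | inv x _ ih => exact ih.inv_right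

theorem commute_G_DH (a : SI D.m) {x : Γ} (hx : x ∈ L.DH) : Commute (L.G a) x :=
  L.commute_DH (L.mono_G a) hx

theorem G_op_mem {a : SI D.m} (ha : ∀ v v' : D.K, v ≠ 0 → v' ≠ 0 → L.N a v * (L.N a v')⁻¹ ∈ L.T) :
    L.G a.swap ∈ L.T := by
  have e : ∀ v : D.K, v ≠ 0 → L.N a.swap v = L.N a ((QuadraticAlgebra.norm v)⁻¹ • v) := fun v hv => by
    have h := L.N_op a.swap hv
    rw [Sum.swap_swap] at h
    exact h.symm
  rw [G, e _ L.ω_ne, e _ one_ne_zero]
  exact ha _ _ (smul_ne_zero (inv_ne_zero (D.norm_ne L.ω_ne)) L.ω_ne)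
    (smul_ne_zero (inv_ne_zero (D.norm_ne one_ne_zero)) one_ne_zero)

theorem N_mul_inv_mem' {a : SI D.m} (ha : L.G a ∈ L.T) {v v' : D.K} (hv : v ≠ 0) (hv' : v' ≠ 0) :
    L.N a v * (L.N a v')⁻¹ ∈ L.T := by
  obtain ⟨i, rfl⟩ := L.ω_gen v hv
  obtain ⟨i', rfl⟩ := L.ω_gen v' hv'
  rw [L.N_pow, L.N_pow]
  have e : L.G a ^ i * L.N a 1 * (L.G a ^ i' * L.N a 1)⁻¹ = L.G a ^ i * (L.G a ^ i')⁻¹ := by group
  rw [e]
  exact mul_mem (pow_mem ha i) (inv_mem (pow_mem ha i'))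

theorem G_mem (a : SI D.m) : L.G a ∈ L.T := by
  have hp : L.G L.p₀ ∈ L.T := Subgroup.mem_sup_right (Subgroup.mem_zpowers _)
  by_cases h : ix a = ix L.p₀
  · rcases eq_or_eq_op h with e | e <;> rw [e]
    · exact hp
    · exact L.G_op_mem fun v v' hv hv' => L.N_mul_inv_mem' hp hv hv'
  · set p := L.p₀
    have hpb : ix p ≠ ix a.swap := by rw [ix_op]; exact Ne.symm h
    set w := L.W p a.swap 1 with hw
    have Mw := L.mono_W hpb (one_ne_zero (α := F))
    have ea : wPerm p a.swap p = a := by simp [wPerm]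
    have e1 : w * L.G p * w⁻¹ = L.G a := by
      have hk : wCoef p a.swap (1 : F) p = 1 := by simp [wCoef]
      have hN : ∀ v, w * L.N p v * w⁻¹ = L.N a v := fun v => by
        rw [L.conj_N Mw, ea, hk]; simp [Datum.cj]
      rw [G, G, ← hN, ← hN 1]; group
    have e2 : L.G p * w * (L.G p)⁻¹ = L.W p a.swap (QuadraticAlgebra.norm L.ω) := by
      rw [hw, L.conj_W (L.mono_G p) hpb, id, id]
      congr 1
      obtain ⟨q1, q2, -⟩ := ne_of_ix (Ne.symm hpb)
      rw [Datum.gCoef, Datum.gCoef, if_pos rfl, if_neg q1, if_neg q2, mul_one, mul_one]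
    rw [← e1, show w * L.G p * w⁻¹ = w * (L.G p * w * (L.G p)⁻¹)⁻¹ * L.G p by group, e2, L.W_inv hpb,
      hw, L.W_mul_W hpb, neg_neg]
    exact mul_mem (mul_mem (L.DH_le_T (L.H_mem_DH hpb one_ne_zero))
      (inv_mem (L.DH_le_T (L.H_mem_DH hpb (D.norm_ne L.ω_ne))))) hp

theorem N_mul_inv_mem (a : SI D.m) {v v' : D.K} (hv : v ≠ 0) (hv' : v' ≠ 0) :
    L.N a v * (L.N a v')⁻¹ ∈ L.T :=
  L.N_mul_inv_mem' (L.G_mem a) hv hv'

theorem N_mul_mem (a : SI D.m) {v v' : D.K} (hv : v ≠ 0) (hv' : v' ≠ 0) : L.N a v * L.N a v' ∈ L.T := by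
  have h := L.N_mul_inv_mem a hv (neg_ne_zero.mpr hv')
  rwa [L.N_inv, neg_neg] at h

theorem W_mul_W_mem {a b : SI D.m} (h : ix a ≠ ix b) {s t : F} (hs : s ≠ 0) (ht : t ≠ 0) :
    L.W a b s * L.W a b t ∈ L.T := by
  rw [L.W_mul_W h]
  exact L.DH_le_T (mul_mem (L.H_mem_DH h hs) (inv_mem (L.H_mem_DH h (neg_ne_zero.mpr ht))))

theorem W_mul_inv_mem {a b : SI D.m} (h : ix a ≠ ix b) {s t : F} (hs : s ≠ 0) (ht : t ≠ 0) :
    L.W a b s * (L.W a b t)⁻¹ ∈ L.T := by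
  rw [L.W_inv h]; exact L.W_mul_W_mem h hs (neg_ne_zero.mpr ht)

/-- Monomial elements normalise the torus. -/
theorem conj_T_mem {γ : Γ} {π : SI D.m → SI D.m} {k : SI D.m → F} {c : D.K} {ε : Bool}
    (M : D.Mono (L.σ γ) π k c ε) {x : Γ} (hx : x ∈ L.T) : γ * x * γ⁻¹ ∈ L.T := by
  suffices h : L.T ≤ L.T.comap (MulAut.conj γ).toMonoidHom from h hx
  refine sup_le ((Subgroup.closure_le _).mpr ?_) ((Subgroup.zpowers_le).mpr ?_)
  · rintro _ ⟨a, b, t, h, ht, rfl⟩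
    show γ * L.H a b t * γ⁻¹ ∈ L.T
    rw [L.conj_H' M h ht]
    exact L.DH_le_T (L.H_mem_DH (M.ix_ne h) ht)
  · show γ * L.G L.p₀ * γ⁻¹ ∈ L.T
    rw [G, show γ * (L.N L.p₀ L.ω * (L.N L.p₀ 1)⁻¹) * γ⁻¹ =
      (γ * L.N L.p₀ L.ω * γ⁻¹) * (γ * L.N L.p₀ 1 * γ⁻¹)⁻¹ by group, L.conj_N M, L.conj_N M]
    have hne : ∀ v : D.K, v ≠ 0 → k L.p₀ • (c * D.cj ε v) ≠ 0 := fun v hv =>
      smul_ne_zero (M.k_ne _) (mul_ne_zero M.c_ne (by cases ε <;> simp [Datum.cj, hv]))
    exact L.N_mul_inv_mem _ (hne _ L.ω_ne) (hne _ one_ne_zero)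

/-! ### The kernel inside the torus -/

/-- Generators at one index. -/
noncomputable def A (i : Fin D.m) (t : F) : Γ := L.H (Sum.inl i) L.p₀.swap t

/-- The extra generator. -/
noncomputable def B (t : F) : Γ := L.H L.j₀ L.p₀ t

/-- The subgroup of the generators at some indices. -/
noncomputable def AS (S : Finset (Fin D.m)) : Subgroup Γ :=
  Subgroup.closure ({x | ∃ i t, i ∈ S ∧ i ≠ L.lst' ∧ t ≠ 0 ∧ x = L.A i t} ∪ {x | ∃ t, t ≠ 0 ∧ x = L.B t})

theorem ix_A {i : Fin D.m} (hi : i ≠ L.lst') : ix (Sum.inl i : SI D.m) ≠ ix L.p₀.swap := by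
  rw [ix_op]; exact hi

theorem AS_le_DH (S : Finset (Fin D.m)) : L.AS S ≤ L.DH := by
  refine (Subgroup.closure_le _).mpr ?_
  rintro _ (⟨i, t, -, hi, ht, rfl⟩ | ⟨t, ht, rfl⟩)
  · exact L.H_mem_DH (L.ix_A hi) ht
  · exact L.H_mem_DH L.ix_j₀_ne ht

theorem DH_le_AS : L.DH ≤ L.AS Finset.univ := by
  have hA : ∀ {i : Fin D.m}, i ≠ L.lst' → ∀ {t : F}, t ≠ 0 → L.A i t ∈ L.AS Finset.univ :=
    fun {i} hi {t} ht => Subgroup.subset_closure (Or.inl ⟨i, t, Finset.mem_univ _, hi, ht, rfl⟩)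
  have hB : ∀ {t : F}, t ≠ 0 → L.B t ∈ L.AS Finset.univ := fun {t} ht =>
    Subgroup.subset_closure (Or.inr ⟨t, ht, rfl⟩)
  -- an index against the reference one
  have hp : ∀ {i : Fin D.m}, i ≠ L.lst' → ∀ {t : F}, t ≠ 0 → L.H (Sum.inl i) L.p₀ t ∈ L.AS Finset.univ := by
    intro i hi t ht
    by_cases hij : i = L.fst'
    · subst hij; exact hB ht
    have h1 : ix (Sum.inl i : SI D.m) ≠ ix L.p₀ := hi
    have h2 : ix (Sum.inl i : SI D.m) ≠ ix L.j₀.swap := by rw [ix_op]; exact hij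
    have h3 : ix L.j₀.swap ≠ ix L.p₀ := by rw [ix_op]; exact L.ix_j₀_ne
    have h4 : ix L.p₀ ≠ ix L.j₀.swap := Ne.symm h3
    rw [L.H_split h1 h2 h3 ht, Sum.swap_swap, L.H_split h2 (L.ix_A hi) (by rw [ix_op]; exact h4) ht,
      Sum.swap_swap, L.H_flip (Ne.symm h4) ht,
      show L.H L.j₀.swap L.p₀ t = L.H L.j₀.swap L.p₀.swap.swap t by rw [Sum.swap_swap],
      L.H_op (by rw [ix_op]; exact L.ix_j₀_ne) ht]
    exact mul_mem (hB ht) (mul_mem (hA L.fst_ne_lst (inv_ne_zero ht)) (hA hi ht))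
  -- one index the reference one
  have hone : ∀ {a b : SI D.m}, ix a ≠ ix L.p₀ → ix b = ix L.p₀ → ∀ {t : F}, t ≠ 0 →
      L.H a b t ∈ L.AS Finset.univ := by
    intro a b ha hb t ht
    rcases a with i | i <;> rcases eq_or_eq_op hb with e | e <;> rw [e]
    · exact hp ha ht
    · exact hA ha ht
    · rw [show L.H (Sum.inr i) L.p₀ t = L.H (Sum.inl i : SI D.m).swap L.p₀.swap.swap t by
        rw [Sum.swap_swap]; rfl, L.H_op (L.ix_A (i := i) ha) ht]
      exact hA ha (inv_ne_zero ht)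
    · rw [show L.H (Sum.inr i) L.p₀.swap t = L.H (Sum.inl i : SI D.m).swap L.p₀.swap t from rfl,
        L.H_op (a := Sum.inl i) ha ht]
      exact hp ha (inv_ne_zero ht)
  refine (Subgroup.closure_le _).mpr ?_
  rintro _ ⟨a, b, t, h, ht, rfl⟩
  by_cases hb : ix b = ix L.p₀
  · exact hone (fun e => h (e.trans hb.symm)) hb ht
  by_cases ha : ix a = ix L.p₀
  · rw [← L.H_flip h ht]; exact hone hb ha ht
  rw [L.H_split h ha (Ne.symm hb) ht, L.H_flip (a := b) (b := L.p₀.swap) (by rw [ix_op]; exact hb) ht]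
  exact mul_mem (hone hb (ix_op _) ht) (hone ha rfl ht)

theorem AS_split (S : Finset (Fin D.m)) {i : Fin D.m} (hi : i ≠ L.lst') {x : Γ}
    (hx : x ∈ L.AS (insert i S)) : ∃ y ∈ L.AS S, ∃ t : F, t ≠ 0 ∧ x = y * L.A i t := by
  induction hx using Subgroup.closure_induction with
  | mem x hx =>
    rcases hx with ⟨i', t, hi', hl, ht, rfl⟩ | ⟨t, ht, rfl⟩
    · rcases Finset.mem_insert.mp hi' with rfl | hi'
      · exact ⟨1, one_mem _, t, ht, (one_mul _).symm⟩
      · exact ⟨_, Subgroup.subset_closure (Or.inl ⟨i', t, hi', hl, ht, rfl⟩), 1, one_ne_zero,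
          by rw [A, A, L.H_one (L.ix_A hi), mul_one]⟩
    · exact ⟨_, Subgroup.subset_closure (Or.inr ⟨t, ht, rfl⟩), 1, one_ne_zero,
        by rw [A, L.H_one (L.ix_A hi), mul_one]⟩
  | one => exact ⟨1, one_mem _, 1, one_ne_zero, by rw [A, L.H_one (L.ix_A hi), mul_one]⟩
  | mul x y _ _ ih ih' =>
    obtain ⟨x, hx, s, hs, rfl⟩ := ih
    obtain ⟨y, hy, t, ht, rfl⟩ := ih'
    refine ⟨x * y, mul_mem hx hy, s * t, mul_ne_zero hs ht, ?_⟩
    have hc : Commute (L.A i s) y := L.commute_DH (L.mono_H (L.ix_A hi) hs) (L.AS_le_DH S hy)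
    rw [show x * L.A i s * (y * L.A i t) = x * (L.A i s * y) * L.A i t by group, hc.eq,
      A, A, A, ← L.H_mul (L.ix_A hi) hs ht]
    group
  | inv x _ ih =>
    obtain ⟨y, hy, t, ht, rfl⟩ := ih
    refine ⟨y⁻¹, inv_mem hy, t⁻¹, inv_ne_zero ht, ?_⟩
    have hc : Commute (L.A i t) y := L.commute_DH (L.mono_H (L.ix_A hi) ht) (L.AS_le_DH S hy)
    rw [mul_inv_rev, hc.inv_inv.eq, A, A, L.H_inv (L.ix_A hi) ht]

theorem AS_coef {S : Finset (Fin D.m)} {x : Γ} (hx : x ∈ L.AS S) {i : Fin D.m} (hi : i ∉ S)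
    (h0 : i ≠ L.fst') (h1 : i ≠ L.lst') : app (L.σ x) (D.e (Sum.inl i)) = D.e (Sum.inl i) := by
  induction hx using Subgroup.closure_induction with
  | mem x hx =>
    rcases hx with ⟨i', t, hi', hl, ht, rfl⟩ | ⟨t, ht, rfl⟩
    · rw [A, (L.mono_H (L.ix_A hl) ht).he, id,
        hCoef_third (a := Sum.inl i') (c := (Sum.inl i : SI D.m)) (fun e => hi ((show i = i' from e) ▸ hi'))
          (L.ix_A h1),
        one_smul]
    · rw [B, (L.mono_H L.ix_j₀_ne ht).he, id,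
        hCoef_third (c := (Sum.inl i : SI D.m)) (a := L.j₀) (b := L.p₀) h0 h1, one_smul]
  | one => rw [map_one, app_one]
  | mul x y _ _ ih ih' => rw [map_mul, app_mul, ih', ih]
  | inv x _ ih =>
    refine app_injective (L.σ x) ?_
    rw [map_inv, app_app_inv, ih]

theorem AS_empty {y : Γ} (hy : y ∈ L.AS ∅) : ∃ u, u ≠ 0 ∧ y = L.B u := by
  induction hy using Subgroup.closure_induction with
  | mem y hy =>
    rcases hy with ⟨i, t, hi, -⟩ | hy
    · simp at hi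
    · exact hy
  | one => exact ⟨1, one_ne_zero, (L.H_one L.ix_j₀_ne).symm⟩
  | mul _ _ _ _ ih ih' =>
    obtain ⟨u, hu, rfl⟩ := ih; obtain ⟨v, hv, rfl⟩ := ih'
    exact ⟨_, mul_ne_zero hu hv, L.H_mul L.ix_j₀_ne hu hv⟩
  | inv _ _ ih =>
    obtain ⟨u, hu, rfl⟩ := ih
    exact ⟨_, inv_ne_zero hu, L.H_inv L.ix_j₀_ne hu⟩

/-- The kernel element. -/
noncomputable def δ : Γ := L.S L.j₀ L.p₀ (-1)

theorem DH_ker {x : Γ} (hx : x ∈ L.DH) (h : L.σ x = 1) : x = 1 ∨ x = L.δ := by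
  -- remove the middle indices
  have key : ∀ S : Finset (Fin D.m), L.fst' ∉ S → L.lst' ∉ S → x ∈ L.AS (insert L.fst' S) →
      x ∈ L.AS {L.fst'} := by
    intro S
    induction S using Finset.induction with
    | empty => intro _ _ hx; exact hx
    | @insert i S hiS ih =>
      intro h0 h1 hx
      simp only [Finset.mem_insert, not_or] at h0 h1
      rw [Finset.insert_comm] at hx
      obtain ⟨y, hy, t, ht, e⟩ := L.AS_split _ (Ne.symm h1.1) hx
      have hyi := L.AS_coef hy (by simp [hiS, Ne.symm h0.1]) (Ne.symm h0.1) (Ne.symm h1.1)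
      have he : app (L.σ x) (D.e (Sum.inl i)) = D.e (Sum.inl i) := by rw [h, app_one]
      rw [e, map_mul, app_mul, A, (L.mono_H (L.ix_A (Ne.symm h1.1)) ht).he, app_smul, id, hyi] at he
      have ht1 : hCoef (Sum.inl i) L.p₀.swap t (Sum.inl i) = 1 :=
        smul_left_injective F (D.e_ne_zero _) (he.trans (one_smul F _).symm)
      rw [hCoef, if_pos (Or.inl rfl)] at ht1
      rw [ht1, A, L.H_one (L.ix_A (Ne.symm h1.1)), mul_one] at e
      exact ih h0.2 h1.2 (e ▸ hy)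
  have hfl := L.fst_ne_lst
  have h1 : x ∈ L.AS {L.fst'} := by
    refine key (((Finset.univ : Finset (Fin D.m)).erase L.fst').erase L.lst') (by simp) (by simp) ?_
    refine (show L.AS Finset.univ ≤ _ from Subgroup.closure_mono ?_) (L.DH_le_AS hx)
    rintro y (⟨i, t, -, hl, ht, e⟩ | hy)
    · exact Or.inl ⟨i, t, by by_cases i = L.fst' <;> simp [*], hl, ht, e⟩
    · exact Or.inr hy
  rw [← Finset.insert_empty] at h1
  obtain ⟨y, hy, t, ht, rfl⟩ := L.AS_split _ hfl h1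
  obtain ⟨u, hu, rfl⟩ := L.AS_empty hy
  have M := (L.mono_H L.ix_j₀_ne hu).mul (L.mono_H (L.ix_A hfl) ht)
  rw [← map_mul, show L.H L.j₀ L.p₀ u * L.H (Sum.inl L.fst') L.p₀.swap t = L.B u * L.A L.fst' t from rfl,
    h] at M
  have c1 := Mono.coef_eq (D := D) M Mono.one L.j₀
  have c2 := Mono.coef_eq (D := D) M Mono.one L.p₀
  obtain ⟨n1, n2, n3⟩ := ne_of_ix L.ix_j₀_ne
  simp only [hCoef, j₀, p₀, Sum.swap_inl, id] at c1 c2
  simp [hfl, hfl.symm] at c1 c2
  have e1 : t = u⁻¹ := eq_inv_of_mul_eq_one_left c1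
  subst e1
  rw [inv_inv] at c2
  rcases mul_self_eq_one_iff.mp c2 with rfl | rfl
  · left; rw [inv_one, B, A, L.H_one L.ix_j₀_ne, L.H_one (L.ix_A hfl), mul_one]
  · right; rw [inv_neg, inv_one, δ, S]; rfl

include L in
theorem mem_F_of_star {v : D.K} (h : star v = v) : ∃ k : F, v = k • (1 : D.K) := by
  refine ⟨v.re, QuadraticAlgebra.ext (by simp [QuadraticAlgebra.re_one]) ?_⟩
  simp only [QuadraticAlgebra.im_smul, QuadraticAlgebra.im_one, smul_zero]
  by_contra hne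
  have h1 := congrArg QuadraticAlgebra.re h
  have h2 := congrArg QuadraticAlgebra.im h
  rw [QuadraticAlgebra.re_star, add_eq_left, mul_eq_zero] at h1
  rw [QuadraticAlgebra.im_star] at h2
  have ha : D.a = 0 := h1.resolve_right hne
  have h3 : (2 : F) = 0 := by
    have : (2 : F) * v.im = 0 := by linear_combination -h2
    exact (mul_eq_zero.mp this).resolve_right hne
  refine L.ω_star (QuadraticAlgebra.ext ?_ ?_)
  · simp [QuadraticAlgebra.re_star, ha]
  · rw [QuadraticAlgebra.im_star]; linear_combination (-L.ω.im) * h3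

variable [Finite Γ]

/-- The kernel meets the torus in at most two elements. -/
theorem T_ker {x : Γ} (hx : x ∈ L.T) (h : L.σ x = 1) : x = 1 ∨ x = L.δ := by
  obtain ⟨d, hd, y, hy, rfl⟩ := exists_mul_of_mem_sup (fun a ha b hb => by
    obtain ⟨n, rfl⟩ := Subgroup.mem_zpowers_iff.mp hb
    rw [((L.commute_G_DH L.p₀ ha).zpow_left n).symm.eq, mul_inv_cancel_right]
    exact Subgroup.zpow_mem_zpowers _ n) hx
  obtain ⟨i, rfl⟩ := mem_powers_iff_mem_zpowers.mpr hy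
  obtain ⟨kd, Md⟩ := L.mono_DH hd
  have Mi : ∀ i : ℕ, ∃ k, D.Mono (L.σ (L.G L.p₀ ^ i)) id k ((L.ω / star L.ω) ^ i) false := by
    intro i
    induction i with
    | zero => rw [pow_zero, map_one, pow_zero]; exact ⟨_, Mono.one⟩
    | succ i ih =>
      obtain ⟨k, M⟩ := ih
      rw [pow_succ, map_mul, pow_succ]
      exact ⟨_, (M.mul (L.mono_G L.p₀)).congr_coef (fun _ => rfl) (fun _ => rfl) (by simp [Datum.cj])⟩
  obtain ⟨ki, Mi⟩ := Mi i
  have hc : (L.ω / star L.ω) ^ i = 1 := by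
    have M := (map_mul L.σ d (L.G L.p₀ ^ i)).symm ▸ Md.mul Mi
    rw [h] at M
    have := Mono.c_eq (D := D) M Mono.one
    simpa [Datum.cj] using this
  have hfix : star (L.ω ^ i) = L.ω ^ i := by
    rw [star_pow]
    rw [div_pow, div_eq_one_iff_eq (pow_ne_zero _ (star_ne_zero.mpr L.ω_ne))] at hc
    exact hc.symm
  obtain ⟨k, hk⟩ := L.mem_F_of_star hfix
  have hk0 : k ≠ 0 := fun e => pow_ne_zero i L.ω_ne (by rw [hk, e, zero_smul])
  have hb : ix L.p₀ ≠ ix L.j₀ := Ne.symm L.ix_j₀_ne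
  have e : L.G L.p₀ ^ i = L.S L.p₀ L.j₀ k := by
    have := L.N_pow L.p₀ i
    rw [hk, L.N_smul hb hk0 one_ne_zero] at this
    exact (mul_right_cancel this).symm
  refine L.DH_ker ?_ h
  show d * L.G L.p₀ ^ i ∈ L.DH
  rw [e]
  exact mul_mem hd (L.S_mem_DH hb hk0)

end Ext

end Cfsg.Agent.Lib.Schur.MinusRoot
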