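import Cfsg.Agent.Lib.Schur.MinusRoot.Lift

/-!
Lifted Weyl and torus elements of minus type: the symbols vanish, so the long torus elements are multiplicative
and central in the lifted torus; the short ones are powers of one of them.
-/

set_option autoImplicit false
set_option linter.unusedSectionVars false

namespace Cfsg.Agent.Lib.Schur.MinusRoot

open Cfsg.Agent.Lib.Orth
open scoped commutatorElement

universe u w

variable {F : Type u} [Field F] {D : Datum F}

/-- Permutation of a long Weyl element. -/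
def wPerm {m : ℕ} (a b : SI m) : SI m → SI m := fun c =>
  if c = a then b.swap else if c = b.swap then a else if c = b then a.swap else if c = a.swap then b else c

/-- Coefficients of a long Weyl element. -/
def wCoef {m : ℕ} (a b : SI m) (t : F) : SI m → F := fun c =>
  if c = a then t⁻¹ else if c = b.swap then -t else if c = b then -t⁻¹ else if c = a.swap then t else 1

/-- Coefficients of a long torus element. -/
def hCoef {m : ℕ} (a b : SI m) (t : F) : SI m → F := fun c =>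
  if c = a ∨ c = b then t else if c = a.swap ∨ c = b.swap then t⁻¹ else 1

namespace Ext

open Datum

variable {Γ : Type w} [Group Γ] (L : Ext D Γ)

/-- A long Weyl element. -/
noncomputable def W (a b : SI D.m) (t : F) : Γ := L.X a b t * L.X a.swap b.swap t⁻¹ * L.X a b t

/-- A long torus element. -/
noncomputable def H (a b : SI D.m) (t : F) : Γ := L.W a b t * L.W a b (-1)

theorem mono_W {a b : SI D.m} (h : ix a ≠ ix b) {t : F} (ht : t ≠ 0) :
    D.Mono (L.σ (L.W a b t)) (wPerm a b) (wCoef a b t) 1 false := by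
  obtain ⟨n1, n2, n3⟩ := ne_of_ix h
  have h' : ix a.swap ≠ ix b.swap := by rwa [ix_op, ix_op]
  refine ⟨fun c => ?_, fun u => ?_⟩
  · rw [W, map_mul, map_mul, L.σ_X h, L.σ_X h', app_mul, app_mul]
    have e0 : a.swap ≠ a := op_ne a
    have e1 : b.swap ≠ b := op_ne b
    have n4 : a.swap ≠ b.swap := fun e => n1 (op_inj e)
    by_cases h1 : c = a
    · subst h1
      simp only [wPerm, wCoef, if_pos, D.app_x_e h, D.app_x_e h', Sum.swap_swap, app_add, app_sub, app_smul,
        e0.symm, e1.symm, n2, n3, n4, n4.symm, n1, n1.symm, n2.symm, n3.symm, e0, e1, if_false, if_true,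
        zero_smul, add_zero, sub_zero]
      match_scalars <;> field_simp <;> ring
    by_cases h2 : c = b.swap
    · subst h2
      simp only [wPerm, wCoef, h1, D.app_x_e h, D.app_x_e h', Sum.swap_swap, app_add, app_sub, app_smul,
        e0.symm, e1.symm, n2, n3, n4, n4.symm, n1, n1.symm, n2.symm, n3.symm, e0, e1, if_false, if_true,
        zero_smul, add_zero, sub_zero]
      match_scalars <;> field_simp <;> ring
    by_cases h3 : c = b
    · subst h3
      simp only [wPerm, wCoef, h1, h2, D.app_x_e h, D.app_x_e h', Sum.swap_swap, app_add, app_sub, app_smul,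
        e0.symm, e1.symm, n2, n3, n4, n4.symm, n1, n1.symm, n2.symm, n3.symm, e0, e1, if_false, if_true,
        zero_smul, add_zero, sub_zero]
      match_scalars <;> field_simp <;> ring
    by_cases h4 : c = a.swap
    · subst h4
      simp only [wPerm, wCoef, h1, h2, h3, D.app_x_e h, D.app_x_e h', Sum.swap_swap, app_add, app_sub, app_smul,
        e0.symm, e1.symm, n2, n3, n4, n4.symm, n1, n1.symm, n2.symm, n3.symm, e0, e1, if_false, if_true,
        zero_smul, add_zero, sub_zero]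
      match_scalars <;> field_simp <;> ring
    simp [wPerm, wCoef, h1, h2, h3, h4, D.app_x_fix h t h4 h2,
      D.app_x_fix h' t⁻¹ (by rw [Sum.swap_swap]; exact h1) (by rw [Sum.swap_swap]; exact h3)]
  · rw [W, map_mul, map_mul, L.σ_X h, L.σ_X h', app_mul, app_mul, D.app_x_j h, D.app_x_j h', D.app_x_j h,
      one_mul]
    rfl

theorem W_inv {a b : SI D.m} (h : ix a ≠ ix b) (t : F) : (L.W a b t)⁻¹ = L.W a b (-t) := by
  have h' : ix a.swap ≠ ix b.swap := by rwa [ix_op, ix_op]
  rw [W, W, mul_inv_rev, mul_inv_rev, L.X_inv h, L.X_inv h', inv_neg, mul_assoc]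

/-- The other factorisation of a Weyl element. -/
theorem W_op {a b : SI D.m} (h : ix a ≠ ix b) {t : F} (ht : t ≠ 0) :
    L.W a b t = L.W a.swap b.swap t⁻¹ := by
  obtain ⟨n1, n2, n3⟩ := ne_of_ix h
  have h' : ix a.swap ≠ ix b.swap := by rwa [ix_op, ix_op]
  have M := L.mono_W h ht
  have e1 : L.W a b t * L.X a b t * (L.W a b t)⁻¹ = L.X a.swap b.swap t⁻¹ := by
    rw [L.conj_X M h, show wPerm a b a = b.swap by simp [wPerm], show wPerm a b b = a.swap by
      simp [wPerm, n1.symm, (op_ne b).symm], show wCoef a b t a = t⁻¹ by simp [wCoef],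
      show wCoef a b t b = -t⁻¹ by simp [wCoef, n1.symm, (op_ne b).symm], L.X_flip h']
    congr 1
    field_simp
  have e2 : L.W a b t * L.X a.swap b.swap t⁻¹ * (L.W a b t)⁻¹ = L.X a b t := by
    rw [L.conj_X M h', show wPerm a b a.swap = b by simp [wPerm, op_ne a, n3, show a.swap ≠ b.swap from fun e => n1 (op_inj e)],
      show wPerm a b b.swap = a by simp [wPerm, n2.symm],
      show wCoef a b t a.swap = t by simp [wCoef, op_ne a, n3, show a.swap ≠ b.swap from fun e => n1 (op_inj e)],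
      show wCoef a b t b.swap = -t by simp [wCoef, n2.symm], L.X_flip h]
    congr 1
    field_simp
  calc L.W a b t = L.W a b t * L.W a b t * (L.W a b t)⁻¹ := (mul_inv_cancel_right _ _).symm
    _ = (L.W a b t * L.X a b t * (L.W a b t)⁻¹) * (L.W a b t * L.X a.swap b.swap t⁻¹ * (L.W a b t)⁻¹) *
        (L.W a b t * L.X a b t * (L.W a b t)⁻¹) := by nth_rw 2 [W]; group
    _ = L.W a.swap b.swap t⁻¹ := by rw [e1, e2, W, Sum.swap_swap, Sum.swap_swap, inv_inv]

theorem W_flip {a b : SI D.m} (h : ix a ≠ ix b) (t : F) : L.W b a t = L.W a b (-t) := by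
  have h' : ix a.swap ≠ ix b.swap := by rwa [ix_op, ix_op]
  rw [W, W, L.X_flip h, L.X_flip h', inv_neg]

theorem conj_W {γ : Γ} {π : SI D.m → SI D.m} {k : SI D.m → F} {c : D.K} {ε : Bool}
    (M : D.Mono (L.σ γ) π k c ε) {a b : SI D.m} (h : ix a ≠ ix b) (t : F) :
    γ * L.W a b t * γ⁻¹ = L.W (π a) (π b) (k a * k b * t) := by
  have h' : ix a.swap ≠ ix b.swap := by rwa [ix_op, ix_op]
  have ea : k a.swap = (k a)⁻¹ := eq_inv_of_mul_eq_one_right (M.k_op a)
  have eb : k b.swap = (k b)⁻¹ := eq_inv_of_mul_eq_one_right (M.k_op b)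
  calc γ * L.W a b t * γ⁻¹ = (γ * L.X a b t * γ⁻¹) * (γ * L.X a.swap b.swap t⁻¹ * γ⁻¹) *
      (γ * L.X a b t * γ⁻¹) := by rw [W]; group
    _ = L.W (π a) (π b) (k a * k b * t) := by
        rw [L.conj_X M h, L.conj_X M h', M.pi_op, M.pi_op, W, ea, eb, mul_inv_rev, mul_inv_rev]
        congr 3
        ring

theorem W_mul_W {a b : SI D.m} (h : ix a ≠ ix b) (s t : F) :
    L.W a b s * L.W a b t = L.H a b s * (L.H a b (-t))⁻¹ := by
  rw [H, H, mul_inv_rev, L.W_inv h, L.W_inv h, neg_neg, neg_neg, mul_assoc, ← mul_assoc (L.W a b (-1)),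
    show L.W a b 1 = (L.W a b (-1))⁻¹ by rw [L.W_inv h, neg_neg], mul_inv_cancel, one_mul]

theorem H_one {a b : SI D.m} (h : ix a ≠ ix b) : L.H a b 1 = 1 := by
  rw [H, ← L.W_inv h, mul_inv_cancel]

theorem mono_H {a b : SI D.m} (h : ix a ≠ ix b) {t : F} (ht : t ≠ 0) :
    D.Mono (L.σ (L.H a b t)) id (hCoef a b t) 1 false := by
  obtain ⟨n1, n2, n3⟩ := ne_of_ix h
  have n4 : a.swap ≠ b.swap := fun e => n1 (op_inj e)
  have e0 : a.swap ≠ a := op_ne a
  have e1 : b.swap ≠ b := op_ne b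
  rw [H, map_mul]
  refine ((L.mono_W h ht).mul (L.mono_W h (neg_ne_zero.mpr one_ne_zero))).congr_coef (fun c => ?_) (fun c => ?_) ?_
  · show wPerm a b (wPerm a b c) = c
    by_cases h1 : c = a
    · subst h1; simp [wPerm, n1, n2, n3, n4, e0, e1, n1.symm, n2.symm, n3.symm, n4.symm, e0.symm, e1.symm]
    by_cases h2 : c = b.swap
    · subst h2; simp [wPerm, n1, n2, n3, n4, e0, e1, n1.symm, n2.symm, n3.symm, n4.symm, e0.symm, e1.symm]
    by_cases h3 : c = b
    · subst h3; simp [wPerm, n1, n2, n3, n4, e0, e1, n1.symm, n2.symm, n3.symm, n4.symm, e0.symm, e1.symm]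
    by_cases h4 : c = a.swap
    · subst h4; simp [wPerm, n1, n2, n3, n4, e0, e1, n1.symm, n2.symm, n3.symm, n4.symm, e0.symm, e1.symm]
    simp [wPerm, h1, h2, h3, h4]
  · show wCoef a b (-1 : F) c * wCoef a b t (wPerm a b c) = hCoef a b t c
    by_cases h1 : c = a
    · subst h1; simp [wPerm, wCoef, hCoef, n1, n2, n3, n4, e0, e1, n1.symm, n2.symm, n3.symm, n4.symm, e0.symm, e1.symm]
    by_cases h2 : c = b.swap
    · subst h2; simp [wPerm, wCoef, hCoef, n1, n2, n3, n4, e0, e1, n1.symm, n2.symm, n3.symm, n4.symm, e0.symm, e1.symm]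
    by_cases h3 : c = b
    · subst h3; simp [wPerm, wCoef, hCoef, n1, n2, n3, n4, e0, e1, n1.symm, n2.symm, n3.symm, n4.symm, e0.symm, e1.symm]
    by_cases h4 : c = a.swap
    · subst h4; simp [wPerm, wCoef, hCoef, n1, n2, n3, n4, e0, e1, n1.symm, n2.symm, n3.symm, n4.symm, e0.symm, e1.symm]
    simp [wPerm, wCoef, hCoef, h1, h2, h3, h4]
  · show (1 : D.K) * 1 = 1
    rw [one_mul]

theorem hCoef_third {a b c : SI D.m} (hca : ix c ≠ ix a) (hcb : ix c ≠ ix b) (t : F) : hCoef a b t c = 1 := by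
  obtain ⟨p1, p2, -⟩ := ne_of_ix hca
  obtain ⟨q1, q2, -⟩ := ne_of_ix hcb
  simp [hCoef, p1, p2, q1, q2]

/-- Conjugation of a torus element by a monomial element. -/
theorem conj_H {γ : Γ} {π : SI D.m → SI D.m} {k : SI D.m → F} {c : D.K} {ε : Bool}
    (M : D.Mono (L.σ γ) π k c ε) {a b : SI D.m} (h : ix a ≠ ix b) (t : F) :
    γ * L.H a b t * γ⁻¹ = L.H (π a) (π b) (k a * k b * t) * (L.H (π a) (π b) (k a * k b))⁻¹ := by
  rw [H, show ∀ p q : Γ, γ * (p * q) * γ⁻¹ = (γ * p * γ⁻¹) * (γ * q * γ⁻¹) from fun p q => by group,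
    L.conj_W M h, L.conj_W M h, L.W_mul_W (M.ix_ne h), mul_neg_one, neg_neg]

/-- The Steinberg identity. -/
theorem H_steinberg {a b : SI D.m} (h : ix a ≠ ix b) {u v : F} (hu : u ≠ 0) (hv : v ≠ 0) (huv : u + v = 1) :
    L.H a b (u * v) = L.H a b u * L.H a b v := by
  obtain ⟨n1, n2, n3⟩ := ne_of_ix h
  have n4 : a.swap ≠ b.swap := fun e => n1 (op_inj e)
  have h' : ix a.swap ≠ ix b.swap := by rwa [ix_op, ix_op]
  have conjY : ∀ {r : F}, r ≠ 0 → ∀ s, L.W a b r * L.X a.swap b.swap s * (L.W a b r)⁻¹ =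
      L.X a b (r * r * s) := by
    intro r hr s
    rw [L.conj_X (L.mono_W h hr) h', show wPerm a b a.swap = b by simp [wPerm, op_ne a, n3, n4],
      show wPerm a b b.swap = a by simp [wPerm, n2.symm],
      show wCoef a b r a.swap = r by simp [wCoef, op_ne a, n3, n4],
      show wCoef a b r b.swap = -r by simp [wCoef, n2.symm], L.X_flip h]
    congr 1
    ring
  have key : L.W a b (u * v) = L.W a b u * L.W a b (-1) * L.W a b v := by
    have e1 : L.W a b u * L.X a.swap b.swap (-1) = L.X a b (-(u * u)) * L.W a b u := by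
      rw [← mul_inv_eq_iff_eq_mul, conjY hu, mul_neg_one]
    have e2 : L.X a.swap b.swap (-1) * L.W a b v = L.W a b v * L.X a b (-(v * v)) := by
      have := conjY (neg_ne_zero.mpr hv) (-1)
      rw [← L.W_inv h, inv_inv, neg_mul_neg, mul_neg_one] at this
      rw [← this]; group
    have e3 : L.W a b (-1) = L.X a.swap b.swap (-1) * L.X a b (-1) * L.X a.swap b.swap (-1) := by
      rw [L.W_op h (neg_ne_zero.mpr one_ne_zero), W, inv_neg, inv_one, Sum.swap_swap, Sum.swap_swap, inv_neg,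
        inv_one]
    rw [e3, show ∀ p q r s : Γ, p * (q * r * q) * s = (p * q) * r * (q * s) from fun p q r s => by group, e1, e2,
      W, W, W,
      show ∀ A p q r s t P Q R : Γ, A * (p * q * r) * s * (P * Q * R * t) = (A * p) * q * (r * s * P) * Q * (R * t) from
        fun A p q r s t P Q R => by group,
      L.X_add h, L.X_add h, L.X_add h, L.X_add h,
      show u + -1 + v = 0 by linear_combination huv, L.X_zero h, mul_one,
      mul_assoc (L.X a b (-(u * u) + u)), L.X_add h',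
      show -(u * u) + u = u * v by linear_combination (-u) * huv,
      show v + -(v * v) = u * v by linear_combination (-v) * huv,
      show u⁻¹ + v⁻¹ = (u * v)⁻¹ by field_simp; linear_combination huv]
  show L.W a b (u * v) * L.W a b (-1) = _
  rw [key, H, H]
  group

variable [Finite F]

theorem exists_nonsquare_pair (h2 : (2 : F) ≠ 0) : ∃ u v : F, ¬ IsSquare u ∧ ¬ IsSquare v ∧ u + v = 1 := by
  classical
  haveI := Fintype.ofFinite F
  by_contra hcon
  push Not at hcon
  obtain ⟨c, hc⟩ := FiniteField.exists_nonsquare (F := F) (fun e => h2 (by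
    have := CharP.cast_eq_zero (R := F) (p := ringChar F); rw [e] at this; exact_mod_cast this))
  have hc0 : c ≠ 0 := fun e => hc (e ▸ IsSquare.zero)
  let A : Finset F := Finset.univ.filter fun u => ¬ IsSquare u
  let B : Finset F := Finset.univ.filter fun u => IsSquare u ∧ u ≠ 0
  have hAB : A.image (fun u => 1 - u) ⊆ B.erase 1 := by
    intro x hx
    obtain ⟨u, hu, rfl⟩ := Finset.mem_image.mp hx
    simp only [A, Finset.mem_filter, Finset.mem_univ, true_and] at hu
    have hu0 : u ≠ 0 := fun e => hu (e ▸ IsSquare.zero)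
    have hu1 : u ≠ 1 := fun e => hu (e ▸ IsSquare.one)
    simp only [Finset.mem_erase, B, Finset.mem_filter, Finset.mem_univ, true_and, ne_eq, sub_eq_self,
      sub_eq_zero]
    refine ⟨hu0, ?_, fun e => hu1 e.symm⟩
    by_contra hns
    exact hcon u (1 - u) hu hns (by ring)
  have h1 := Finset.card_le_card hAB
  rw [Finset.card_image_of_injective _ (fun a b e => sub_right_injective e)] at h1
  have hA : B.image (fun u => c * u) ⊆ A := by
    intro x hx
    obtain ⟨u, hu, rfl⟩ := Finset.mem_image.mp hx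
    simp only [B, Finset.mem_filter, Finset.mem_univ, true_and] at hu
    simp only [A, Finset.mem_filter, Finset.mem_univ, true_and]
    intro hsq
    exact hc (by simpa [hu.2] using hsq.div hu.1)
  have h2' := Finset.card_le_card hA
  rw [Finset.card_image_of_injective _ (mul_right_injective₀ hc0)] at h2'
  have h3 : (B.erase 1).card < B.card :=
    Finset.card_erase_lt_of_mem (by simp [B])
  omega

/-- The symbols vanish. -/
theorem H_mul {a b : SI D.m} (hab : ix a ≠ ix b) {s t : F} (hs : s ≠ 0) (ht : t ≠ 0) :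
    L.H a b s * L.H a b t = L.H a b (s * t) := by
  classical
  haveI := Fintype.ofFinite F
  obtain ⟨c, hca, hcb⟩ := exists_third L.three_le a b
  have hac : ix a ≠ ix c := Ne.symm hca
  obtain ⟨n1, n2, n3⟩ := ne_of_ix hab
  -- the symbol
  let C : F → F → Γ := fun s t => ⁅L.H a c s, L.H a b t⁆
  have hCz : ∀ {s t : F}, s ≠ 0 → t ≠ 0 → ∀ z, Commute (C s t) z := fun {s t} hs ht =>
    L.central_comm (Ext.torus_comm (L.mono_H hac hs) (L.mono_H hab ht))
  have hst : ∀ {s t : F}, s ≠ 0 → t ≠ 0 → L.H a b (s * t) = C s t * (L.H a b t * L.H a b s) := by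
    intro s t hs ht
    have e := L.conj_H (L.mono_H hac hs) hab t
    rw [id, id, show hCoef a c s a = s by simp [hCoef], hCoef_third (Ne.symm hab) (Ne.symm hcb), mul_one] at e
    rw [eq_comm, mul_inv_eq_iff_eq_mul] at e
    rw [e]
    simp only [C, commutatorElement_def]
    group
  have heq : ∀ {x y : SI D.m}, ix x ≠ ix y → ∀ {p q : F}, p ≠ 0 → q ≠ 0 →
      L.σ (L.H x y (p * q)) = L.σ (L.H x y p * L.H x y q) := by
    intro x y hxy p q hp hq
    refine D.ext_app (fun d => ?_) (fun u => ?_)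
    · rw [map_mul, app_mul, (L.mono_H hxy (mul_ne_zero hp hq)).he, (L.mono_H hxy hq).he, app_smul,
        (L.mono_H hxy hp).he, smul_smul]
      congr 1
      simp only [hCoef, id]
      split_ifs <;> simp [mul_comm]
    · rw [map_mul, app_mul, (L.mono_H hxy (mul_ne_zero hp hq)).hj, (L.mono_H hxy hq).hj, (L.mono_H hxy hp).hj]
      simp [Datum.cj]
  have hmulL : ∀ {p q t : F}, p ≠ 0 → q ≠ 0 → t ≠ 0 → C (p * q) t = C p t * C q t := by
    intro p q t hp hq ht
    show ⁅_, _⁆ = _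
    rw [L.comm_congr (heq hac hp hq) (rfl : L.σ (L.H a b t) = _), comm_mul_left (hCz hq ht _),
      (hCz hq ht _).eq]
  have hanti : ∀ {p q : F}, p ≠ 0 → q ≠ 0 → C p q * C q p = 1 := by
    intro p q hp hq
    have hcb' : ix c ≠ ix b.swap := by rwa [ix_op]
    obtain ⟨l1, l2, l3⟩ := ne_of_ix hcb
    have M := L.mono_W hcb' one_ne_zero
    have pc : wPerm c b.swap c = b := by simp [wPerm]
    have pb : wPerm c b.swap b = c := by simp [wPerm, l1.symm]
    have pa : wPerm c b.swap a = a := by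
      obtain ⟨q1, q2, -⟩ := ne_of_ix hac
      simp [wPerm, q1, q2, n1, n2]
    have e : ∀ {x : SI D.m} (hax : ix a ≠ ix x) {r : F} (hr : r ≠ 0) {y : SI D.m} (hy : ix a ≠ ix y),
        wPerm c b.swap x = y →
        L.σ (L.W c b.swap 1) * L.σ (L.H a x r) * (L.σ (L.W c b.swap 1))⁻¹ = L.σ (L.H a y r) := by
      intro x hax r hr y hy hxy
      rw [← map_inv, ← map_mul, ← map_mul, L.conj_H M hax, pa, hxy, map_mul, map_inv, mul_inv_eq_iff_eq_mul,
        mul_comm _ r, heq hy hr (mul_ne_zero (M.k_ne _) (M.k_ne _)), map_mul]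
    have h1 := L.conj_comm (e hac hp hab pc) (e hab hq hac pb)
    have h3 : C p q = ⁅L.H a b p, L.H a c q⁆ := by
      rw [← h1, show ⁅L.H a c p, L.H a b q⁆ = C p q from rfl, (hCz hp hq _).symm.eq, mul_inv_cancel_right]
    rw [h3, ← commutatorElement_inv, show ⁅L.H a c q, L.H a b p⁆ = C q p from rfl, inv_mul_cancel]
  have hone : ∀ {r : F}, r ≠ 0 → C 1 r = 1 := fun {r} hr => by
    show ⁅_, _⁆ = _
    rw [L.H_one hac, commutatorElement_one_left]
  obtain ⟨γ, hγ⟩ : IsCyclic Fˣ := inferInstance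
  have hγ0 : (γ : F) ≠ 0 := γ.ne_zero
  set c0 := C γ γ with hc0
  have hpowL : ∀ (i : ℕ) {r : F}, r ≠ 0 → C ((γ : F) ^ i) r = C γ r ^ i := by
    intro i r hr
    induction i with
    | zero => rw [pow_zero, pow_zero, hone hr]
    | succ i ih => rw [pow_succ, hmulL (pow_ne_zero _ hγ0) hγ0 hr, ih, pow_succ]
  have hpow : ∀ i j : ℕ, C ((γ : F) ^ i) ((γ : F) ^ j) = c0 ^ (i * j) := by
    intro i j
    have h : C γ ((γ : F) ^ j) = c0 ^ j := by
      rw [← inv_inj]
      rw [← eq_inv_of_mul_eq_one_left (hanti (pow_ne_zero j hγ0) hγ0), hpowL j hγ0, ← inv_pow, hc0,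
        ← eq_inv_of_mul_eq_one_left (hanti hγ0 hγ0)]
    rw [hpowL i (pow_ne_zero j hγ0), h, ← pow_mul, mul_comm]
  have hsq : c0 ^ 2 = 1 := by rw [pow_two]; exact hanti hγ0 hγ0
  have hgen : ∀ {r : F}, r ≠ 0 → ∃ i : ℕ, r = (γ : F) ^ i := by
    intro r hr
    obtain ⟨i, hi⟩ := mem_powers_iff_mem_zpowers.mpr (hγ (Units.mk0 r hr))
    exact ⟨i, by rw [← Units.val_pow_eq_pow_val]; exact (congrArg Units.val hi).symm⟩
  have hodd : ∃ n : ℕ, Odd n ∧ c0 ^ n = 1 := by
    by_cases h2 : (2 : F) = 0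
    · refine ⟨Fintype.card F - 1, ?_, ?_⟩
      · obtain ⟨k, hk⟩ := Cfsg.Agent.Lib.Classical.two_eq_zero_iff_even_card.1 h2
        have := Fintype.one_lt_card (α := F)
        exact ⟨k - 1, by omega⟩
      · have := hpow (Fintype.card F - 1) 1
        rwa [FiniteField.pow_card_sub_one_eq_one _ hγ0, pow_one, hone hγ0, mul_one, eq_comm] at this
    · obtain ⟨u, v, hu, hv, huv⟩ := exists_nonsquare_pair h2
      have hu0 : u ≠ 0 := fun e => hu (e ▸ IsSquare.zero)
      have hv0 : v ≠ 0 := fun e => hv (e ▸ IsSquare.zero)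
      obtain ⟨i, rfl⟩ := hgen hu0
      obtain ⟨j, rfl⟩ := hgen hv0
      have oi : Odd i := Nat.not_even_iff_odd.mp fun he => hu (he.isSquare_pow _)
      have oj : Odd j := Nat.not_even_iff_odd.mp fun he => hv (he.isSquare_pow _)
      refine ⟨j * i, oj.mul oi, ?_⟩
      have h := L.H_steinberg hab hu0 hv0 huv
      rw [mul_comm, hst hv0 hu0, mul_eq_right, hpow] at h
      exact h
  have hc1 : c0 = 1 := by
    obtain ⟨n, ⟨k, rfl⟩, hn⟩ := hodd
    rwa [pow_succ, pow_mul, hsq, one_pow, one_mul] at hn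
  obtain ⟨i, rfl⟩ := hgen hs
  obtain ⟨j, rfl⟩ := hgen ht
  rw [mul_comm ((γ : F) ^ i), hst ht hs, hpow, hc1, one_pow, one_mul]

theorem H_inv {a b : SI D.m} (h : ix a ≠ ix b) {t : F} (ht : t ≠ 0) : (L.H a b t)⁻¹ = L.H a b t⁻¹ := by
  rw [inv_eq_iff_mul_eq_one, L.H_mul h ht (inv_ne_zero ht), mul_inv_cancel₀ ht, L.H_one h]

/-- Monomial elements permute the long torus elements. -/
theorem conj_H' {γ : Γ} {π : SI D.m → SI D.m} {k : SI D.m → F} {c : D.K} {ε : Bool}
    (M : D.Mono (L.σ γ) π k c ε) {a b : SI D.m} (h : ix a ≠ ix b) {t : F} (ht : t ≠ 0) :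
    γ * L.H a b t * γ⁻¹ = L.H (π a) (π b) t := by
  have hk := mul_ne_zero (M.k_ne a) (M.k_ne b)
  rw [L.conj_H M h, mul_inv_eq_iff_eq_mul, L.H_mul (M.ix_ne h) ht hk, mul_comm]

theorem H_flip {a b : SI D.m} (h : ix a ≠ ix b) {t : F} (ht : t ≠ 0) : L.H b a t = L.H a b t := by
  rw [H, L.W_flip h, L.W_flip h, neg_neg, L.W_mul_W h, ← L.H_mul h (neg_ne_zero.mpr one_ne_zero) ht |>.trans
    (congrArg _ (neg_one_mul t)), L.H_inv h (neg_ne_zero.mpr one_ne_zero), inv_neg, inv_one]
  rw [L.H_mul h (neg_ne_zero.mpr one_ne_zero) ht, L.H_mul h (mul_ne_zero (neg_ne_zero.mpr one_ne_zero) ht)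
    (neg_ne_zero.mpr one_ne_zero)]
  congr 1
  ring

theorem H_op {a b : SI D.m} (h : ix a ≠ ix b) {t : F} (ht : t ≠ 0) :
    L.H a.swap b.swap t = L.H a b t⁻¹ := by
  rw [H, H, L.W_op h (inv_ne_zero ht), inv_inv, L.W_op h (neg_ne_zero.mpr one_ne_zero), inv_neg, inv_one]

/-- Splitting a long torus element at a third index. -/
theorem H_split {a b c : SI D.m} (hab : ix a ≠ ix b) (hac : ix a ≠ ix c) (hcb : ix c ≠ ix b) {t : F}
    (ht : t ≠ 0) : L.H a b t = L.H c.swap b t * L.H a c t := by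
  obtain ⟨n1, n2, n3⟩ := ne_of_ix hac
  obtain ⟨m1, m2, m3⟩ := ne_of_ix hab
  obtain ⟨l1, l2, l3⟩ := ne_of_ix hcb
  have hcb' : ix c ≠ ix b.swap := by rwa [ix_op]
  have M := L.mono_W hcb' (one_ne_zero (α := F))
  have e1 : L.W c b.swap 1 * L.H a c t * (L.W c b.swap 1)⁻¹ = L.H a b t := by
    rw [L.conj_H' M hac ht, show wPerm c b.swap a = a by simp [wPerm, n1, n2, m1, m2],
      show wPerm c b.swap c = b by simp [wPerm]]
  have Mh := L.mono_H hac ht
  have e2 : L.H a c t * L.W c b.swap (-1) * (L.H a c t)⁻¹ = L.W c b.swap (-t) := by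
    rw [L.conj_W Mh hcb', id, id, show hCoef a c t c = t by simp [hCoef],
      hCoef_third (by rwa [ix_op, ne_comm]) (by rwa [ix_op, ne_comm]), mul_one, mul_neg_one]
  rw [← L.W_inv hcb', ← L.W_inv hcb'] at e2
  calc L.H a b t = L.W c b.swap 1 * (L.H a c t * (L.W c b.swap 1)⁻¹ * (L.H a c t)⁻¹) * L.H a c t := by
        rw [← e1]; group
    _ = L.H c.swap b t * L.H a c t := by
        congr 1
        rw [e2, L.W_inv hcb', L.W_mul_W hcb', neg_neg, L.H_one hcb', one_mul, L.H_inv hcb' ht,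
          show L.H c b.swap t⁻¹ = L.H c.swap.swap b.swap t⁻¹ by rw [Sum.swap_swap],
          L.H_op (by rwa [ix_op]) (inv_ne_zero ht), inv_inv]

/-- A lifted element exchanging `e a` and `e a.swap`. -/
noncomputable def N (a : SI D.m) (v : D.K) : Γ :=
  L.Z a v * L.Z a.swap ((QuadraticAlgebra.norm v)⁻¹ • v) * L.Z a v

@[simp] theorem σ_N (a : SI D.m) (v : D.K) : L.σ (L.N a v) = D.n a v := by
  rw [N, map_mul, map_mul, σ_Z, σ_Z]; rfl

theorem mono_N (a : SI D.m) {v : D.K} (hv : v ≠ 0) :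
    D.Mono (L.σ (L.N a v)) (D.flipAt a) (D.nCoef a v) (-(v / star v)) true := by
  rw [σ_N]; exact D.mono_n a hv

theorem N_inv (a : SI D.m) (v : D.K) : (L.N a v)⁻¹ = L.N a (-v) := by
  rw [N, N, mul_inv_rev, mul_inv_rev, L.Z_inv, L.Z_inv, QuadraticAlgebra.norm_neg, smul_neg, mul_assoc]

theorem norm_smul (k : F) (v : D.K) :
    QuadraticAlgebra.norm (k • v) = k * k * QuadraticAlgebra.norm v := by
  rw [← D.Q_j, ← D.Q_j, map_smul, QuadraticMap.map_smul, smul_eq_mul]

theorem conj_N {γ : Γ} {π : SI D.m → SI D.m} {k : SI D.m → F} {c : D.K} {ε : Bool}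
    (M : D.Mono (L.σ γ) π k c ε) (a : SI D.m) (v : D.K) :
    γ * L.N a v * γ⁻¹ = L.N (π a) (k a • (c * D.cj ε v)) := by
  have ea : k a.swap = (k a)⁻¹ := eq_inv_of_mul_eq_one_right (M.k_op a)
  have hn : QuadraticAlgebra.norm (c * D.cj ε v) = QuadraticAlgebra.norm v := by
    rw [← D.Q_j, ← M.hj, Q_app, D.Q_j]
  calc γ * L.N a v * γ⁻¹ = (γ * L.Z a v * γ⁻¹) *
      (γ * L.Z a.swap ((QuadraticAlgebra.norm v)⁻¹ • v) * γ⁻¹) * (γ * L.Z a v * γ⁻¹) := by rw [N]; group
    _ = L.N (π a) (k a • (c * D.cj ε v)) := by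
        rw [L.conj_Z M, L.conj_Z M, N, M.pi_op, ea, norm_smul, hn, Mono.cj_smul, mul_smul_comm, smul_smul,
          smul_smul]
        congr 3
        have := M.k_ne a
        rcases eq_or_ne (QuadraticAlgebra.norm v) 0 with e | e
        · simp [e]
        · field_simp

/-- The torus element of an index with square scaling. -/
noncomputable def S (a b : SI D.m) (t : F) : Γ := L.H a b t * L.H a b.swap t

/-- Scaling the short Weyl element. -/
theorem N_smul {a b : SI D.m} (h : ix a ≠ ix b) {k : F} (hk : k ≠ 0) {v : D.K} (hv : v ≠ 0) :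
    L.N a (k • v) = L.S a b k * L.N a v := by
  have e1 : L.H a b k * L.N a v * (L.H a b k)⁻¹ = L.N a (k • v) := by
    rw [L.conj_N (L.mono_H h hk), id, show hCoef a b k a = k by simp [hCoef]]
    simp [Datum.cj]
  have e2 : L.N a v * L.H a b k⁻¹ * (L.N a v)⁻¹ = L.H a b.swap k := by
    rw [L.conj_H' (L.mono_N a hv) h (inv_ne_zero hk), show D.flipAt a a = a.swap by simp [Datum.flipAt],
      show D.flipAt a b = b by simp [Datum.flipAt, Ne.symm h],
      show b = b.swap.swap by rw [Sum.swap_swap], L.H_op (by rwa [ix_op]) (inv_ne_zero hk), inv_inv,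
      Sum.swap_swap]
  rw [← e1, S, L.H_inv h hk, ← e2]
  group

/-- The torus element generating the rotations. -/
noncomputable def G (a : SI D.m) : Γ := L.N a L.ω * (L.N a 1)⁻¹

theorem σ_G (a : SI D.m) : L.σ (L.G a) = D.g a L.ω := by
  rw [G, L.N_inv, map_mul, σ_N, σ_N]; rfl

theorem mono_G (a : SI D.m) :
    D.Mono (L.σ (L.G a)) id (D.gCoef a L.ω) (L.ω / star L.ω) false :=
  (L.σ_G a).symm ▸ D.mono_g a L.ω_ne

/-- Every short Weyl element is a power of the torus element times a fixed one. -/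
theorem N_pow (a : SI D.m) (i : ℕ) : L.N a (L.ω ^ i) = L.G a ^ i * L.N a 1 := by
  obtain ⟨b, hb, -⟩ := exists_third L.three_le a a
  have hab : ix a ≠ ix b := Ne.symm hb
  set g := L.G a with hg
  set n₀ := L.N a 1 with hn₀
  set n₁ := L.N a L.ω with hn₁
  have hgn : n₁ = g * n₀ := by rw [hg, G, inv_mul_cancel_right]
  have hsqv : ∀ {v : D.K}, v ≠ 0 → L.N a v * L.N a v = (L.S a b (-1))⁻¹ := fun {v} hv => by
    have e := L.N_smul hab (neg_ne_zero.mpr one_ne_zero) hv
    rw [neg_one_smul, ← L.N_inv, inv_eq_iff_mul_eq_one] at e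
    exact eq_inv_of_mul_eq_one_right (by rw [← mul_assoc]; exact (mul_eq_one_comm.mp e))
  have e0 : n₀ * n₀ = n₁ * n₁ := by rw [hn₀, hn₁, hsqv one_ne_zero, hsqv L.ω_ne]
  have e1 : n₀ * g⁻¹ = g * n₀ := by
    rw [← hgn, hg, G, mul_inv_rev, inv_inv, ← hn₀, ← hn₁, ← mul_assoc, e0, mul_inv_cancel_right]
  have e2 : ∀ j : ℕ, n₀ * (g ^ j)⁻¹ = g ^ j * n₀ := by
    intro j
    induction j with
    | zero => simp
    | succ j ih =>
      rw [pow_succ', mul_inv_rev, ← mul_assoc, ih, mul_assoc, e1, ← mul_assoc, ← pow_succ, ← pow_succ']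
  have step : ∀ v, L.N a (L.ω * L.ω * v) = g * L.N a v * g⁻¹ := fun v => by
    rw [L.conj_N (L.mono_G a), id, Datum.gCoef, if_pos rfl, Algebra.smul_def,
      QuadraticAlgebra.algebraMap_norm_eq_mul_star]
    congr 1
    show L.ω * L.ω * v = L.ω * star L.ω * (L.ω / star L.ω * v)
    field_simp [star_ne_zero.mpr L.ω_ne]
  have hit : ∀ (j : ℕ) (v : D.K), L.N a (L.ω ^ (2 * j) * v) = g ^ j * L.N a v * (g ^ j)⁻¹ := by
    intro j v
    induction j with
    | zero => simp
    | succ j ih =>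
      rw [show L.ω ^ (2 * (j + 1)) * v = L.ω * L.ω * (L.ω ^ (2 * j) * v) by ring, step, ih, pow_succ']
      group
  rcases Nat.even_or_odd' i with ⟨j, rfl | rfl⟩
  · have h := hit j 1
    rw [mul_one] at h
    rw [h, mul_assoc, e2, ← mul_assoc, ← pow_add, two_mul]
  · have h := hit j L.ω
    rw [← pow_succ] at h
    rw [h, ← hn₁, hgn, mul_assoc (g ^ j), mul_assoc g, e2, ← mul_assoc, ← mul_assoc, ← pow_succ, ← pow_add,
      show j + 1 + j = 2 * j + 1 by ring]

theorem N_op (a : SI D.m) {v : D.K} (hv : v ≠ 0) :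
    L.N a.swap ((QuadraticAlgebra.norm v)⁻¹ • v) = L.N a v := by
  have h := L.conj_N (L.mono_N a hv) a v
  rw [mul_inv_cancel_right, show D.flipAt a a = a.swap by simp [Datum.flipAt], Datum.nCoef, if_pos rfl] at h
  rw [h]
  congr 1
  show _ = (-(QuadraticAlgebra.norm v)⁻¹) • (-(v / star v) * star v)
  rw [neg_mul, div_mul_cancel₀ _ (star_ne_zero.mpr hv), smul_neg, neg_smul, neg_neg]

end Ext

end Cfsg.Agent.Lib.Schur.MinusRoot
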